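import Mathlib.GroupTheory.QuotientGroup.Basic
import Mathlib.GroupTheory.Coset.Card
import Mathlib.Data.Nat.ModEq
import Mathlib.Algebra.Group.Subgroup.Finite
import Mathlib.Tactic.Abel
import Mathlib.Tactic.Group
import Mathlib.GroupTheory.OrderOfElement
import Mathlib.Algebra.BigOperators.Group.Finset.Basic
import Mathlib.Algebra.Module.Basic

/-!
# A group like `A₄` acting on a module spanned by the fixed points of two of its elements of order three
-/

set_option autoImplicit false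
set_option maxHeartbeats 400000
set_option linter.unusedSectionVars false
set_option linter.style.haveILetI false

namespace CfsgLib.FocalThree

variable {L : Type*} [Group L] [Finite L] {V : Type*} [AddCommGroup V] [Finite V]

theorem act_act {φ : L →* AddMonoid.End V} (a b : L) (x : V) : φ (a * b) x = φ a (φ b x) := by
  rw [map_mul]; rfl

theorem act_self {φ : L →* AddMonoid.End V} (x : V) : φ 1 x = x := by
  rw [map_one]; rfl

/-- A member of the normalizer sends fixed points to fixed points. -/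
theorem fixed_of_normalizer {φ : L →* AddMonoid.End V} {R : Subgroup L} {g : L}
    (hg : g ∈ Subgroup.normalizer (R : Set L)) {x : V} (hx : ∀ r ∈ R, φ r x = x) :
    ∀ r ∈ R, φ r (φ g x) = φ g x := by
  intro r hr
  have h1 : g⁻¹ * r * g ∈ R := (Subgroup.mem_normalizer_iff''.1 hg r).1 hr
  rw [← act_act, show r * g = g * (g⁻¹ * r * g) by group, act_act, hx _ h1]

theorem eq_of_add_self (hodd : Odd (Nat.card V)) {a b : V} (h : a + a = b + b) : a = b := by
  obtain ⟨k, hk⟩ := hodd
  have h1 : Nat.card V • (a - b) = 0 := card_nsmul_eq_zero'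
  have h2 : (2 : ℕ) • (a - b) = 0 := by
    rw [two_nsmul, show a - b + (a - b) = (a + a) - (b + b) by abel, h, sub_self]
  rw [hk, add_nsmul, mul_nsmul, h2, smul_zero, zero_add, one_nsmul] at h1
  exact sub_eq_zero.1 h1

/-- The module computation. -/
theorem a4_fixed (φ : L →* AddMonoid.End V) (R : Subgroup L) (hodd : Odd (Nat.card V))
    (hcop : (Nat.card R).Coprime (Nat.card V)) {u v h : L}
    (hu : u ∈ Subgroup.normalizer (R : Set L)) (hv : v ∈ Subgroup.normalizer (R : Set L))
    (hh : h ∈ Subgroup.normalizer (R : Set L)) (hu3 : u ^ 3 ∈ R) (hh2 : h ^ 2 ∈ R)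
    (hrel : (h * (u * h * u⁻¹))⁻¹ * (u * (u * h * u⁻¹) * u⁻¹) ∈ R)
    (hvh : v⁻¹ * (h * u * h⁻¹) ∈ R)
    (hspan : ∀ z : V, ∃ x y, z = x + y ∧ φ u x = x ∧ φ v y = y)
    {w : V} (hw : ∀ r ∈ R, φ r w = w) : φ h w = w := by
  classical
  haveI : Fintype R := Fintype.ofFinite _
  obtain ⟨m, hm⟩ : ∃ m : ℕ, ∀ z : V, m • (Nat.card R • z) = z := by
    obtain ⟨k, hk0, hk1⟩ := Nat.chineseRemainder hcop 0 1
    obtain ⟨m, rfl⟩ := Nat.modEq_zero_iff_dvd.1 hk0
    refine ⟨m, fun z => ?_⟩
    rw [← mul_nsmul]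
    conv_rhs => rw [← one_nsmul z]
    exact nsmul_eq_nsmul_iff_modEq.2 (hk1.of_dvd (addOrderOf_dvd_natCard z))
  -- averaging over `R`
  let avg : V →+ V := AddMonoidHom.mk' (fun z => m • ∑ r : R, φ (r : L) z) fun a b => by
    simp only [map_add, Finset.sum_add_distrib, smul_add]
  have havg : ∀ z, avg z = m • ∑ r : R, φ (r : L) z := fun z => rfl
  have hfix : ∀ z, ∀ r ∈ R, φ r (avg z) = avg z := by
    intro z r hr
    rw [havg, map_nsmul, map_sum]
    congr 1
    exact Fintype.sum_equiv (Equiv.mulLeft (⟨r, hr⟩ : R)) _ _ fun s => (act_act r s z).symm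
  have hcomm : ∀ g ∈ Subgroup.normalizer (R : Set L), ∀ z, φ g (avg z) = avg (φ g z) := by
    intro g hg z
    rw [havg, havg, map_nsmul, map_sum]
    congr 1
    let e : R ≃ R :=
      { toFun := fun r => ⟨g * r * g⁻¹, (Subgroup.mem_normalizer_iff.1 hg r).1 r.2⟩
        invFun := fun r => ⟨g⁻¹ * r * g, (Subgroup.mem_normalizer_iff''.1 hg r).1 r.2⟩
        left_inv := fun r => Subtype.ext (by group)
        right_inv := fun r => Subtype.ext (by group) }
    refine Fintype.sum_equiv e _ _ fun s => ?_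
    show φ g (φ (s : L) z) = φ (g * (s : L) * g⁻¹) (φ g z)
    rw [← act_act, ← act_act, inv_mul_cancel_right]
  have hid : ∀ z, (∀ r ∈ R, φ r z = z) → avg z = z := by
    intro z hz
    rw [havg, Finset.sum_congr rfl (fun (r : R) _ => hz (r : L) r.2), Finset.sum_const, Finset.card_univ,
      ← Nat.card_eq_fintype_card, hm]
  -- every fixed vector splits into fixed vectors
  have hsplit : ∀ z, (∀ r ∈ R, φ r z = z) → ∃ x1 x2, z = x1 + φ h x2 ∧
      (∀ r ∈ R, φ r x1 = x1) ∧ φ u x1 = x1 ∧ (∀ r ∈ R, φ r x2 = x2) ∧ φ u x2 = x2 := by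
    intro z hz
    obtain ⟨x, y, hxy, hux, hvy⟩ := hspan z
    refine ⟨avg x, φ h⁻¹ (avg y), ?_, hfix x, by rw [hcomm u hu, hux],
      fixed_of_normalizer (inv_mem hh) (hfix y), ?_⟩
    · rw [← act_act, mul_inv_cancel, act_self, ← map_add, ← hxy, hid z hz]
    · have h1 : φ (h * u * h⁻¹) (avg y) = avg y := by
        rw [show h * u * h⁻¹ = v * (v⁻¹ * (h * u * h⁻¹)) by group, act_act, hfix y _ hvh, hcomm v hv,
          hvy]
      rw [← act_act, show u * h⁻¹ = h⁻¹ * (h * u * h⁻¹) by group, act_act, h1]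
  -- it suffices to treat the vectors fixed by `u`
  suffices key : ∀ x, (∀ r ∈ R, φ r x = x) → φ u x = x → φ h x = x by
    obtain ⟨x1, x2, hz, h1, h1u, h2, h2u⟩ := hsplit w hw
    rw [key x2 h2 h2u] at hz
    rw [hz, map_add, key x1 h1 h1u, key x2 h2 h2u]
  intro x hx hux
  have hR : ∀ {g}, g ∈ Subgroup.normalizer (R : Set L) → ∀ {z}, (∀ r ∈ R, φ r z = z) →
      ∀ r ∈ R, φ r (φ g z) = φ g z := fun hg _ hz => fixed_of_normalizer hg hz
  -- the three conjugates of `h` on a fixed vector fixed by `u`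
  have huinv : ∀ z, φ u z = z → φ u⁻¹ z = z := fun z hz => by
    conv_lhs => rw [← hz]
    rw [← act_act, inv_mul_cancel, act_self]
  have hu3' : ∀ z, (∀ r ∈ R, φ r z = z) → φ u (φ u (φ u z)) = z := fun z hz => by
    rw [← act_act, ← act_act]
    rw [show u * u * u = u ^ 3 by rw [pow_succ, pow_two]]
    exact hz _ hu3
  have hh2' : ∀ z, (∀ r ∈ R, φ r z = z) → φ h (φ h z) = z := fun z hz => by
    rw [← act_act, ← pow_two]; exact hz _ hh2
  have hc : ∀ z, (∀ r ∈ R, φ r z = z) → φ u z = z → φ h (φ u (φ h z)) = φ u (φ u (φ h z)) := by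
    intro z hz huz
    have e := hz _ hrel
    have e2 : φ (u * (u * h * u⁻¹) * u⁻¹) z = φ (h * (u * h * u⁻¹)) z := by
      rw [show u * (u * h * u⁻¹) * u⁻¹ = (h * (u * h * u⁻¹)) *
        ((h * (u * h * u⁻¹))⁻¹ * (u * (u * h * u⁻¹) * u⁻¹)) by group, act_act, e]
    simp only [act_act, huinv z huz] at e2
    exact e2.symm
  obtain ⟨x1, x2, hz, h1, h1u, h2, h2u⟩ := hsplit (φ u (φ h x)) (hR hu (hR hh hx))
  have e1 : φ u (φ u (φ h x)) = x1 + φ u (φ h x2) := by
    rw [hz, map_add, h1u]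
  have e2 : φ h x = x1 + φ u (φ u (φ h x2)) := by
    have e := congrArg (φ u) e1
    rwa [hu3' _ (hR hh hx), map_add, h1u] at e
  -- `(1 + h)` on both equations
  have f1 : φ u (φ h x) + φ u (φ u (φ h x)) = x + φ h x := by
    have a1 := congrArg (φ h) e1
    have a2 := congrArg (φ h) e2
    rw [← hc x hx hux, hh2' _ (hR hu (hR hh hx)), map_add] at a1
    rw [hh2' x hx, map_add, ← hc x2 h2 h2u, hh2' _ (hR hu (hR hh h2))] at a2
    rw [e1, a1, e2, a2, hc x2 h2 h2u]
    abel
  have f2 : φ u (φ u (φ h x)) + φ h x = x + φ u (φ h x) := by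
    have e := congrArg (φ u) f1
    rwa [map_add, map_add, hux, hu3' _ (hR hh hx)] at e
  have f3 : φ h x + φ u (φ h x) = x + φ u (φ u (φ h x)) := by
    have e := congrArg (φ u) f2
    rwa [map_add, map_add, hux, hu3' _ (hR hh hx)] at e
  set A := φ h x
  set B := φ u A
  set C := φ u B
  have hCB : B = C := eq_of_add_self hodd (by
    calc B + B = (x + B) + (A + B) - (x + A) := by abel
      _ = (C + A) + (x + C) - (x + A) := by rw [f2, f3]
      _ = C + C := by abel)
  have hAB : A = B := eq_of_add_self hodd (by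
    calc A + A = (x + A) + (C + A) - (C + x) := by abel
      _ = (B + C) + (x + B) - (C + x) := by rw [f1, f2]
      _ = B + B := by abel)
  rw [← hCB, ← hAB] at f1
  exact add_right_cancel (b := A) f1

end CfsgLib.FocalThree
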