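import Cfsg.Agent.Lib.FocalThree.Module
import Cfsg.Agent.Lib.FocalOdd.Baumann
import Cfsg.Agent.Lib.LocalEven.CLPushing

/-!
# `B(S)` and its minimal centrally large subgroups in a minimal failure
-/

set_option autoImplicit false
set_option maxHeartbeats 400000
set_option linter.unusedSectionVars false
set_option linter.style.haveILetI false

open scoped commutatorElement MatrixGroups

namespace CfsgLib.FocalThree

open CfsgLib.ConjFunctor
open CfsgLib.FocalOdd (relC relC_normal omegaOneCenter_spec uni uni_injective uni_zero)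

universe u

variable {p : ℕ} [Fact p.Prime] {G : Type u} [Group G] [Finite G] {S : Sylow p G} {M : Subgroup G}
variable {F : Type} [Field F] [Fintype F] {n : ℕ} {f : G →* Matrix.SpecialLinearGroup (Fin 2) F}

/-- `Ω₁(Z(J(S)))`. -/
abbrev ZJ (S : Sylow p G) : Subgroup G :=
  Cfsg.omegaOne p (Cfsg.centerThompsonOf p (S : Subgroup G))

/-- `Ω₁(Z(O_p(G)))`. -/
abbrev VP (p : ℕ) (G : Type u) [Group G] : Subgroup G := Cfsg.omegaOneCenter p (Cfsg.pCore p G)

/-- `B(S)`. -/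
abbrev BS (S : Sylow p G) : Subgroup G := Cfsg.baumannSubgroupOf p (S : Subgroup G)

namespace Crit

theorem inf_ker (h : Crit p G S M) (hD : SL2Data S F n f) :
    (S : Subgroup G) ⊓ f.ker = Cfsg.pCore p G := by rw [hD.ker]; exact h.inf_cent_V

theorem relIndex_S (h : Crit p G S M) (hD : SL2Data S F n f) :
    (Cfsg.pCore p G).relIndex (S : Subgroup G) = p ^ n := by
  haveI := CfsgLib.Solvable.pCore_normal p G
  obtain ⟨A, hA, hAP⟩ : ∃ A ∈ CfsgLib.PLocal.maxEAIn p (S : Subgroup G), ¬ A ≤ Cfsg.pCore p G := by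
    by_contra hcon
    push Not at hcon
    refine h.not_J_le_P ?_
    rw [CfsgLib.PLocal.thompsonSubgroupOf_eq]
    exact sSup_le hcon
  obtain ⟨hsup, e1, -, -⟩ := hD.offender A hA hAP
  rw [← hsup, Subgroup.relIndex_sup_right]
  refine Nat.eq_of_mul_eq_mul_left (Nat.card_pos (α := ↥(A ⊓ Cfsg.pCore p G))) ?_
  rw [show A ⊓ Cfsg.pCore p G = Cfsg.pCore p G ⊓ A from inf_comm _ _,
    CfsgLib.LocalEven.CLP.card_mul_relIndex_eq, e1, inf_comm A, mul_comm]

theorem J_sup_P (h : Crit p G S M) (hD : SL2Data S F n f) :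
    Cfsg.thompsonSubgroupOf p (S : Subgroup G) ⊔ Cfsg.pCore p G = (S : Subgroup G) := by
  refine le_antisymm (sup_le (CfsgLib.PLocal.thompsonSubgroupOf_le p _) (P_le S)) ?_
  obtain ⟨A, hA, hAP⟩ : ∃ A ∈ CfsgLib.PLocal.maxEAIn p (S : Subgroup G), ¬ A ≤ Cfsg.pCore p G := by
    by_contra hcon
    push Not at hcon
    refine h.not_J_le_P ?_
    rw [CfsgLib.PLocal.thompsonSubgroupOf_eq]
    exact sSup_le hcon
  refine (hD.offender A hA hAP).1.ge.trans (sup_le_sup_right ?_ _)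
  rw [CfsgLib.PLocal.thompsonSubgroupOf_eq]
  exact le_sSup hA

theorem ZJ_le_P (h : Crit p G S M) (hD : SL2Data S F n f) : ZJ S ≤ Cfsg.pCore p G := by
  obtain ⟨A, hA, hAP⟩ : ∃ A ∈ CfsgLib.PLocal.maxEAIn p (S : Subgroup G), ¬ A ≤ Cfsg.pCore p G := by
    by_contra hcon
    push Not at hcon
    refine h.not_J_le_P ?_
    rw [CfsgLib.PLocal.thompsonSubgroupOf_eq]
    exact sSup_le hcon
  obtain ⟨-, -, -, hA1⟩ := hD.offender A hA hAP
  have hA1J : (A ⊓ Cfsg.pCore p G) ⊔ VP p G ≤ Cfsg.thompsonSubgroupOf p (S : Subgroup G) := by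
    rw [CfsgLib.PLocal.thompsonSubgroupOf_eq]
    exact le_sSup hA1
  intro z hz
  have hzJ := CfsgLib.PLocal.omegaOne_le p _ hz
  refine (sup_le inf_le_right (fun x hx => (omegaOneCenter_spec hx).1) :
    (A ⊓ Cfsg.pCore p G) ⊔ VP p G ≤ Cfsg.pCore p G) ?_
  exact CfsgLib.PLocal.mem_maxEAIn_of_centralizing hA1
    (CfsgLib.PLocal.thompsonSubgroupOf_le p _ hzJ.1)
    (Subgroup.mem_centralizer_iff.2 fun a ha => Subgroup.mem_centralizer_iff.1 hzJ.2 a (hA1J ha))
    ((CfsgLib.PLocal.omegaCenter_isEA _).2 z hz)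

theorem VP_le_BS (h : Crit p G S M) (hD : SL2Data S F n f) : VP p G ≤ BS S :=
  fun v hv => ⟨P_le S (omegaOneCenter_spec hv).1, Subgroup.mem_centralizer_iff.2 fun z hz =>
    (omegaOneCenter_spec hv).2.1 z (h.ZJ_le_P hD hz)⟩

set_option maxHeartbeats 1000000 in
/-- `W = Ω₁(Z(J)) V` is normal, and the elements of order prime to `p` are trivial on `W / V`. -/
theorem normal_W (h : Crit p G S M) (hD : SL2Data S F n f) :
    (ZJ S ⊔ VP p G).Normal ∧ ∀ g : G, (orderOf g).Coprime p → ∀ w ∈ ZJ S ⊔ VP p G,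
      g * w * g⁻¹ * w⁻¹ ∈ VP p G := by
  classical
  haveI hPn := CfsgLib.Solvable.pCore_normal p G
  haveI hVn := normal_V p G
  set P := Cfsg.pCore p G with hPdef
  set V := Cfsg.omegaOneCenter p P with hVdef
  set J := Cfsg.thompsonSubgroupOf p (S : Subgroup G) with hJdef
  have hA := hD.offender
  have hVe : Cfsg.IsElementaryAbelian p V := CfsgLib.PLocal.omegaCenter_isEA P
  have hVP : V ≤ P := fun x hx => (omegaOneCenter_spec hx).1
  have hVc : ∀ x ∈ P, ∀ v ∈ V, x * v = v * x := fun x hx v hv => (omegaOneCenter_spec hv).2.1 x hx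
  have hPS : P ≤ (S : Subgroup G) := P_le S
  have hJS : J ≤ (S : Subgroup G) := CfsgLib.PLocal.thompsonSubgroupOf_le p _
  have hZe : Cfsg.IsElementaryAbelian p (ZJ S) := CfsgLib.PLocal.omegaCenter_isEA J
  have hZJ : ZJ S ≤ J := fun x hx => (CfsgLib.PLocal.omegaOne_le p _ hx).1
  have hZc : ∀ j ∈ J, ∀ z ∈ ZJ S, j * z = z * j := fun j hj z hz =>
    Subgroup.mem_centralizer_iff.1 (CfsgLib.PLocal.omegaOne_le p _ hz).2 j hj
  have hSZ : (S : Subgroup G) ≤ Subgroup.normalizer (ZJ S : Set G) := by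
    intro s hs
    refine CfsgLib.PLocal.mem_normalizer_of_map_conj_eq ?_
    show (Cfsg.omegaOne p _).map _ = _
    rw [Cfsg.centerThompsonOf,
      CfsgLib.PLocal.omegaCenter_map (f := (MulAut.conj s).toMonoidHom) (MulAut.conj s).injective,
      CfsgLib.PLocal.map_conj_eq_of_mem_normalizer
        (CfsgLib.PLocal.normalizer_le_normalizer_thompsonSubgroupOf _ (Subgroup.le_normalizer hs))]
    rfl
  obtain ⟨A₀, hA₀, hA₀P⟩ : ∃ A ∈ CfsgLib.PLocal.maxEAIn p (S : Subgroup G), ¬ A ≤ P := by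
    by_contra hcon
    push Not at hcon
    refine h.not_J_le_P ?_
    rw [CfsgLib.PLocal.thompsonSubgroupOf_eq]
    exact sSup_le hcon
  obtain ⟨-, -, -, hA₀'⟩ := hA A₀ hA₀ hA₀P
  set A₁ := (A₀ ⊓ P) ⊔ V with hA₁
  have hA₁P : A₁ ≤ P := sup_le inf_le_right hVP
  have hPS' : ∀ X ∈ CfsgLib.PLocal.maxEAIn p P, X ∈ CfsgLib.PLocal.maxEAIn p (S : Subgroup G) :=
    fun X hX => ⟨hX.1.trans hPS, hX.2.1, fun D hD hDe =>
      (hA₀'.2.2 D hD hDe).trans (hX.2.2 A₁ hA₁P hA₀'.2.1)⟩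
  have hSP' : ∀ X ∈ CfsgLib.PLocal.maxEAIn p (S : Subgroup G), X ≤ P →
      X ∈ CfsgLib.PLocal.maxEAIn p P := fun X hX hXP =>
    ⟨hXP, hX.2.1, fun D hD hDe => hX.2.2 D (hD.trans hPS) hDe⟩
  set JP := Cfsg.thompsonSubgroupOf p P with hJP
  have hJPJ : JP ≤ J := by
    rw [hJP, hJdef, CfsgLib.PLocal.thompsonSubgroupOf_eq, CfsgLib.PLocal.thompsonSubgroupOf_eq]
    exact sSup_le_sSup hPS'
  have hA₁JP : A₁ ≤ JP := by
    rw [hJP, CfsgLib.PLocal.thompsonSubgroupOf_eq]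
    exact le_sSup (hSP' _ hA₀' hA₁P)
  set Y := Cfsg.omegaOne p (Cfsg.centerThompsonOf p P) with hYdef
  have hYe : Cfsg.IsElementaryAbelian p Y := CfsgLib.PLocal.omegaCenter_isEA JP
  have hYP : Y ≤ P := fun x hx =>
    CfsgLib.PLocal.thompsonSubgroupOf_le p P (CfsgLib.PLocal.omegaOne_le p _ hx).1
  have hYc : ∀ X ∈ CfsgLib.PLocal.maxEAIn p P, X ≤ Subgroup.centralizer (Y : Set G) := by
    intro X hX x hx y hy
    have hxJ : x ∈ JP := by
      rw [hJP, CfsgLib.PLocal.thompsonSubgroupOf_eq]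
      exact le_sSup hX hx
    exact (Subgroup.mem_centralizer_iff.1 (CfsgLib.PLocal.omegaOne_le p _ hy).2 x hxJ).symm
  haveI hYn : Y.Normal := by
    refine Subgroup.normalizer_eq_top_iff.1 (top_le_iff.1 fun g _ => ?_)
    refine CfsgLib.PLocal.mem_normalizer_of_map_conj_eq ?_
    rw [hYdef, Cfsg.centerThompsonOf,
      CfsgLib.PLocal.omegaCenter_map (f := (MulAut.conj g).toMonoidHom) (MulAut.conj g).injective,
      CfsgLib.PLocal.map_conj_eq_of_mem_normalizer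
        (CfsgLib.PLocal.normalizer_le_normalizer_thompsonSubgroupOf _
          ((Subgroup.normalizer_eq_top (H := P)).ge (Subgroup.mem_top g)))]
  have hVY : V ≤ Y := fun v hv => CfsgLib.PLocal.mem_omegaOne
    ⟨hA₁JP (Subgroup.mem_sup_right hv), Subgroup.mem_centralizer_iff.2 fun y hy =>
      hVc y (CfsgLib.PLocal.thompsonSubgroupOf_le p P hy) v hv⟩ (hVe.2 v hv)
  have hZY : ZJ S ≤ Y := fun z hz => by
    refine CfsgLib.PLocal.mem_omegaOne ⟨hA₁JP ?_, Subgroup.mem_centralizer_iff.2 fun y hy =>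
      hZc y (hJPJ hy) z hz⟩ (hZe.2 z hz)
    exact CfsgLib.PLocal.mem_maxEAIn_of_centralizing hA₀' (hJS (hZJ hz))
      (Subgroup.mem_centralizer_iff.2 fun a ha => hZc a (hJPJ (hA₁JP ha)) z hz) (hZe.2 z hz)
  -- every offender is trivial on `Y / V`
  have hAY : ∀ A ∈ CfsgLib.PLocal.maxEAIn p (S : Subgroup G), A ≤ relC Y V := by
    intro A hAm a ha
    by_cases hAP : A ≤ P
    · intro y hy
      rw [← Subgroup.mem_centralizer_iff.1 (hYc A (hSP' A hAm hAP) ha) y hy]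
      simp
    · obtain ⟨-, e1, e2, hA'⟩ := hA A hAm hAP
      have hc : A ⊓ P ≤ Subgroup.centralizer (Y : Set G) :=
        le_sup_left.trans (hYc _ (hSP' _ hA' (sup_le inf_le_right hVP)))
      have hX := hAm.2.2 ((A ⊓ P) ⊔ Y) (sup_le (inf_le_left.trans hAm.1) (hYP.trans hPS))
        (CfsgLib.PLocal.isEA_sup (CfsgLib.PLocal.isEA_mono hAm.2.1 inf_le_left) hYe hc)
      have hXc := CfsgLib.PLoc.card_sup_mul_card_inf (H := A ⊓ P) (N := Y)
        Subgroup.le_normalizer_of_normal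
      rw [show (A ⊓ P) ⊓ Y = Y ⊓ A by rw [inf_assoc, inf_eq_right.2 hYP, inf_comm]] at hXc
      have hKc := CfsgLib.PLoc.card_sup_mul_card_inf (H := Y ⊓ A) (N := V)
        Subgroup.le_normalizer_of_normal
      rw [show (Y ⊓ A) ⊓ V = V ⊓ A by rw [inf_comm (Y ⊓ A), ← inf_assoc, inf_eq_left.2 hVY]] at hKc
      have hK : (Y ⊓ A) ⊔ V = Y := by
        refine Subgroup.eq_of_le_of_card_ge (sup_le inf_le_left hVY) ?_
        have h1 : Nat.card Y ≤ p ^ n * Nat.card ↥(Y ⊓ A) := by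
          refine Nat.le_of_mul_le_mul_left ?_ (Nat.card_pos (α := ↥(A ⊓ P)))
          rw [← hXc]
          refine (Nat.mul_le_mul_right _ hX).trans (le_of_eq ?_)
          rw [e1]; ring
        refine h1.trans (le_of_eq (Nat.eq_of_mul_eq_mul_right (Nat.card_pos (α := ↥(V ⊓ A))) ?_))
        rw [hKc, e2]; ring
      intro y hy
      obtain ⟨b, hb, v, hv, rfl⟩ := Subgroup.mem_sup_of_normal_right.1 (hK.ge hy)
      have hab : b * a = a * b := (CfsgLib.PLocal.commute_of_mem_comm hAm.2.1.1 hb.2 ha).eq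
      have e : a * (b * v) * a⁻¹ * (b * v)⁻¹ = b * (a * v * a⁻¹ * v⁻¹) * b⁻¹ := by
        calc a * (b * v) * a⁻¹ * (b * v)⁻¹ = a * b * v * a⁻¹ * v⁻¹ * b⁻¹ := by group
          _ = b * a * v * a⁻¹ * v⁻¹ * b⁻¹ := by rw [hab]
          _ = b * (a * v * a⁻¹ * v⁻¹) * b⁻¹ := by group
      rw [e]
      exact hVn.conj_mem _ (mul_mem (hVn.conj_mem v hv a) (inv_mem hv)) b
  haveI hN1n : (relC Y V).Normal := relC_normal Y V
  have hJN : J ≤ relC Y V := by
    rw [hJdef, CfsgLib.PLocal.thompsonSubgroupOf_eq]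
    exact sSup_le hAY
  have htop : relC Y V ⊔ P = ⊤ := h.eq_top_of_S_le inferInstance
    ((h.J_sup_P hD).ge.trans (sup_le_sup_right hJN P))
  have hres : Cfsg.pResidual p G ≤ relC Y V := by
    let f' := (QuotientGroup.mk' (relC Y V)).comp P.subtype
    have hs : Function.Surjective f' := by
      intro q
      obtain ⟨g, rfl⟩ := QuotientGroup.mk'_surjective (relC Y V) q
      obtain ⟨c, hc, x, hx, rfl⟩ := Subgroup.mem_sup_of_normal_left.1 (htop.ge (Subgroup.mem_top g))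
      refine ⟨⟨x, hx⟩, ?_⟩
      show QuotientGroup.mk' (relC Y V) x = QuotientGroup.mk' (relC Y V) (c * x)
      rw [map_mul, show QuotientGroup.mk' (relC Y V) c = 1 from (QuotientGroup.eq_one_iff c).2 hc,
        one_mul]
    exact (CfsgLib.Transfer.pResidual_le_ker_of_isPGroup
      ((CfsgLib.Solvable.pCore_isPGroup p G).of_surjective f' hs)
      (QuotientGroup.mk' (relC Y V))).trans (QuotientGroup.ker_mk' _).le
  set W := ZJ S ⊔ V with hWdef
  have hWY : W ≤ Y := sup_le hZY hVY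
  have hN1W : ∀ g ∈ relC Y V, ∀ w ∈ W, g * w * g⁻¹ ∈ W := fun g hg w hw => by
    simpa using mul_mem (Subgroup.mem_sup_right (hg w (hWY hw)) : g * w * g⁻¹ * w⁻¹ ∈ W) hw
  have hWn : W.Normal := by
    refine Subgroup.normalizer_eq_top_iff.1 ?_
    refine top_le_iff.1 (htop.ge.trans (sup_le (fun g hg => ?_) (hPS.trans fun s hs => ?_)))
    · refine Subgroup.mem_normalizer_iff.2 fun w => ⟨hN1W g hg w, fun hw => ?_⟩
      simpa [mul_assoc] using hN1W g⁻¹ (inv_mem hg) _ hw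
    · refine CfsgLib.PLocal.mem_normalizer_of_map_conj_eq ?_
      rw [hWdef, Subgroup.map_sup, CfsgLib.PLocal.map_conj_eq_of_mem_normalizer (hSZ hs),
        CfsgLib.PLocal.map_conj_eq_of_mem_normalizer
          ((Subgroup.normalizer_eq_top (H := V)).ge (Subgroup.mem_top s))]
  exact ⟨hWn, fun g hg w hw => hres (Subgroup.subset_closure hg) w (hWY hw)⟩

theorem inf_BS (h : Crit p G S M) (hD : SL2Data S F n f) : BS S ⊓ Cfsg.pCore p G =
    Cfsg.pCore p G ⊓ Subgroup.centralizer ((ZJ S ⊔ VP p G : Subgroup G) : Set G) := by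
  refine le_antisymm ?_ ?_
  · intro x hx
    refine ⟨hx.2, ?_⟩
    refine Subgroup.le_centralizer_iff.1 (sup_le (fun z hz => ?_) (fun v hv => ?_) :
      ZJ S ⊔ VP p G ≤ Subgroup.centralizer ((BS S ⊓ Cfsg.pCore p G : Subgroup G) : Set G)) hx
    · exact Subgroup.mem_centralizer_iff.2 fun y hy =>
        (Subgroup.mem_centralizer_iff.1 hy.1.2 z hz).symm
    · exact Subgroup.mem_centralizer_iff.2 fun y hy => (omegaOneCenter_spec hv).2.1 y hy.2
  · intro x hx
    exact ⟨⟨P_le S hx.1, Subgroup.centralizer_le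
      (show (ZJ S : Set G) ⊆ _ from SetLike.coe_subset_coe.2 le_sup_left) hx.2⟩, hx.1⟩

theorem normal_P₀ (h : Crit p G S M) (hD : SL2Data S F n f) : (BS S ⊓ Cfsg.pCore p G).Normal := by
  haveI := (h.normal_W hD).1
  haveI := CfsgLib.Solvable.pCore_normal p G
  rw [h.inf_BS hD]
  infer_instance

end Crit

/-- What the minimal centrally large subgroups of `B(S)` provide. -/
structure Pair (S : Sylow p G) (f : G →* Matrix.SpecialLinearGroup (Fin 2) F) (u g : G)
    (D E : Subgroup G) : Prop where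
  u_mem : u ∈ BS S
  fu : f u = uni 1
  fg : f g = weyl
  D_le : D ≤ BS S ⊓ Cfsg.pCore p G
  E_le : E ≤ D
  commD : ∀ d ∈ D, u * d = d * u
  commE : ∀ e ∈ E, ∀ d ∈ D, e * d = d * e
  double : ∀ x ∈ BS S ⊓ Cfsg.pCore p G, (∀ e ∈ E, e * x = x * e) → x ∈ D ⊔ VP p G
  prod : ∀ x ∈ BS S ⊓ Cfsg.pCore p G,
    (∀ y ∈ (D ⊔ VP p G) ⊓ (D ⊔ VP p G).map (MulAut.conj g).toMonoidHom, y * x = x * y) →
      ∃ a ∈ E ⊔ VP p G, ∃ b ∈ (E ⊔ VP p G).map (MulAut.conj g).toMonoidHom, x = a * b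

namespace Crit

set_option maxHeartbeats 1000000 in
theorem exists_pair (h : Crit p G S M) (hD : SL2Data S F n f) :
    ∃ u g : G, ∃ D E : Subgroup G, Pair S f u g D E := by
  classical
  haveI hPn := CfsgLib.Solvable.pCore_normal p G
  haveI hVn := normal_V p G
  haveI hP₀n := h.normal_P₀ hD
  set B := BS S with hBdef
  set P := Cfsg.pCore p G with hPdef
  set V := VP p G with hVdef
  set ι := B.subtype with hι
  have hιinj : Function.Injective ι := B.subtype_injective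
  have hVP : V ≤ P := fun x hx => (omegaOneCenter_spec hx).1
  have hVB : V ≤ B := h.VP_le_BS hD
  have hBS : B ≤ (S : Subgroup G) := inf_le_left
  set P₀ := P.subgroupOf B with hP₀
  set V₀ := V.subgroupOf B with hV₀
  have hP₀map : P₀.map ι = B ⊓ P := by rw [hι, hP₀, Subgroup.subgroupOf_map_subtype, inf_comm]
  have hV₀map : V₀.map ι = V := by
    rw [hι, hV₀, Subgroup.subgroupOf_map_subtype, inf_eq_left.2 hVB]
  have hindex : P₀.index = p ^ n := by
    have e : B ⊔ P = (S : Subgroup G) := le_antisymm (sup_le hBS (P_le S))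
      ((h.J_sup_P hD).ge.trans (sup_le_sup_right (J_le_B S) P))
    rw [← h.relIndex_S hD, ← e, Subgroup.relIndex_sup_right]
    rfl
  have hset : CfsgLib.LocalEven.CLP.Setup P₀ V₀ (p ^ n) := by
    refine ⟨fun x hx => hVP hx, fun x hx => Subgroup.mem_centralizer_iff.2 fun y hy =>
      Subtype.ext ((omegaOneCenter_spec hx).2.1 y hy), hindex.le, fun a ha => ?_⟩
    have e1 := CfsgLib.LocalEven.CLP.card_mul_relIndex_eq
      (H := Subgroup.centralizer ({a} : Set B)) (K := V₀)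
    have e2 : Nat.card ↥(Subgroup.centralizer ({a} : Set B) ⊓ V₀) ≤
        Nat.card ↥(V ⊓ Subgroup.centralizer ((S : Subgroup G) : Set G)) := by
      rw [← Subgroup.card_map_of_injective hιinj]
      refine Nat.le_of_dvd Nat.card_pos (Subgroup.card_dvd_of_le ?_)
      rintro _ ⟨x, ⟨hx1, hx2⟩, rfl⟩
      exact ⟨hx2, hD.fixS a (hBS a.2) ha x hx2
        (congrArg Subtype.val (Subgroup.mem_centralizer_singleton_iff.1 hx1)).symm⟩
    have e3 : Nat.card V₀ = Nat.card V := by rw [← hV₀map, Subgroup.card_map_of_injective hιinj]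
    refine Nat.le_of_mul_le_mul_left ?_ (Nat.card_pos
      (α := ↥(V ⊓ Subgroup.centralizer ((S : Subgroup G) : Set G))))
    refine le_trans (le_of_eq ?_) (Nat.mul_le_mul_right _ e2)
    rw [e1, e3, hD.cardV, mul_comm]
  -- conjugates of subgroups of `P₀`
  set cj : G → Subgroup B → Subgroup B := fun g X => ((X.map ι).map (MulAut.conj g).toMonoidHom).comap ι
    with hcj
  have hcjmap : ∀ g, ∀ X : Subgroup B, X ≤ P₀ →
      cj g X ≤ P₀ ∧ (cj g X).map ι = (X.map ι).map (MulAut.conj g).toMonoidHom := by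
    intro g X hX
    have hle : (X.map ι).map (MulAut.conj g).toMonoidHom ≤ B ⊓ P := by
      rintro _ ⟨x, hx, rfl⟩
      exact hP₀n.conj_mem x (hP₀map.le (Subgroup.map_mono hX hx)) g
    refine ⟨fun x hx => (hle hx).2, ?_⟩
    rw [hcj, Subgroup.map_comap_eq, hι, Subgroup.range_subtype, inf_eq_right.2 (hle.trans inf_le_left)]
  have hcjiso : ∀ g, ∀ X : Subgroup B, X ≤ P₀ → Nonempty (↥X ≃* ↥(cj g X)) := fun g X hX =>
    ⟨((X.equivMapOfInjective _ hιinj).trans
      ((X.map ι).equivMapOfInjective _ (MulAut.conj g).injective)).trans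
      ((MulEquiv.subgroupCongr (hcjmap g X hX).2.symm).trans
        ((cj g X).equivMapOfInjective _ hιinj).symm)⟩
  -- some minimal centrally large subgroup is not in `P₀`
  obtain ⟨Q, hQ, hQn⟩ : ∃ Q : Subgroup B, Cfsg.IsMinimalCentrallyLarge Q ∧ ¬ Q ≤ P₀ := by
    by_contra hcon
    push Not at hcon
    refine h.not_normal_mcl ⟨fun x hx g => ?_⟩
    have key : (Cfsg.minimalCentrallyLargeJoin B).map ι ≤
        ((Cfsg.minimalCentrallyLargeJoin B).map ι).comap (MulAut.conj g).toMonoidHom := by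
      rw [Cfsg.minimalCentrallyLargeJoin, (Subgroup.gc_map_comap ι).l_sSup]
      refine iSup₂_le fun X hX => ?_
      rw [← Subgroup.map_le_iff_le_comap, ← (hcjmap g X (hcon X hX)).2]
      obtain ⟨e⟩ := hcjiso g X (hcon X hX)
      exact le_iSup₂_of_le (cj g X) (CfsgLib.LocalEven.CLP.mcl_of_equiv hX e) le_rfl
    exact key hx
  obtain ⟨hQ1, -, hsup, -, hy, hCR⟩ := CfsgLib.LocalEven.CLP.replace hset hQ hQn
  obtain ⟨-, hQc⟩ := CfsgLib.LocalEven.centrallyLarge_iff.1 hQ.1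
  set C := Subgroup.centralizer (Q : Set B) with hC
  set Q₁ := (Q ⊓ P₀) ⊔ V₀ with hQ₁
  obtain ⟨hQ1l, hQ1c⟩ := CfsgLib.LocalEven.centrallyLarge_iff.1 hQ1.1
  have hQ1P : Q₁ ≤ P₀ := sup_le inf_le_right hset.le
  -- an element of `C(Q)` over `uni 1`
  obtain ⟨u, huC, hfu⟩ : ∃ u ∈ C, f (u : G) = uni 1 := by
    set fB := f.comp ι with hfB
    have hk : fB.ker = P₀ := by
      ext x
      refine ⟨fun hx => (h.inf_ker hD).le ⟨hBS x.2, hx⟩, fun hx => ?_⟩
      exact ((h.inf_ker hD).ge hx).2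
    have e : Nat.card ↥(C.map fB) = p ^ n := by rw [← Subgroup.relIndex_ker, hk, hy]
    have hsub : (C.map fB : Set (Matrix.SpecialLinearGroup (Fin 2) F)) ⊆ Set.range (uni (F := F)) := by
      rintro _ ⟨x, -, rfl⟩
      obtain ⟨s, hs⟩ := hD.uni_of_mem x (hBS x.2)
      exact ⟨s, hs.symm⟩
    have heq := Set.eq_of_subset_of_ncard_le hsub (le_of_eq (by
      rw [Set.ncard_range_of_injective uni_injective, Nat.card_eq_fintype_card, hD.card, ← e]
      rfl)) (Set.toFinite _)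
    obtain ⟨x, hx, hxe⟩ := heq.ge ⟨1, rfl⟩
    exact ⟨x, hx, hxe⟩
  obtain ⟨g, hg⟩ := hD.surj weyl
  refine ⟨u, g, (Q ⊓ P₀).map ι, (C ⊓ P₀).map ι, u.2, hfu, hg, ?_, ?_, ?_, ?_, ?_, ?_⟩
  · exact (Subgroup.map_mono inf_le_right).trans hP₀map.le
  · exact Subgroup.map_mono (inf_le_inf_right _ hQc)
  · rintro _ ⟨d, hd, rfl⟩
    exact congrArg ι (Subgroup.mem_centralizer_iff.1 huC d hd.1).symm
  · rintro _ ⟨e, he, rfl⟩ _ ⟨d, hd, rfl⟩
    exact congrArg ι (Subgroup.mem_centralizer_iff.1 he.1 d hd.1).symm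
  · intro x hx hxe
    have hxe' : (⟨x, hx.1⟩ : B) ∈ Subgroup.centralizer (((C ⊓ P₀) ⊔ V₀ : Subgroup B) : Set B) := by
      have hle : (C ⊓ P₀) ⊔ V₀ ≤ Subgroup.centralizer ({(⟨x, hx.1⟩ : B)} : Set B) := by
        refine sup_le (fun t ht => ?_) fun t ht => ?_ <;>
          refine Subgroup.mem_centralizer_singleton_iff.2 (hιinj ?_)
        · exact hxe _ ⟨t, ht, rfl⟩
        · exact ((omegaOneCenter_spec ht).2.1 x hx.2).symm
      exact Subgroup.mem_centralizer_iff.2 fun t ht =>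
        Subgroup.mem_centralizer_singleton_iff.1 (hle ht)
    have h2 := (CfsgLib.LocalEven.large_double_centralizer hQ1l).le (hCR ▸ hxe')
    have h3 := Subgroup.mem_map_of_mem ι h2
    rwa [hQ₁, Subgroup.map_sup, hV₀map] at h3
  · intro x hx hxy
    set R := cj g Q₁ with hRdef
    obtain ⟨e⟩ := hcjiso g Q₁ hQ1P
    obtain ⟨hRl, hRc⟩ := CfsgLib.LocalEven.centrallyLarge_iff.1
      (CfsgLib.LocalEven.CLP.mcl_of_equiv hQ1 e).1
    have hRmap := (hcjmap g Q₁ hQ1P).2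
    have hCP : Subgroup.centralizer (Q₁ : Set B) ≤ P₀ := hQ1c.trans hQ1P
    have hCR' : Subgroup.centralizer (R : Set B) = cj g (Subgroup.centralizer (Q₁ : Set B)) := by
      refine (Subgroup.eq_of_le_of_card_ge ?_ ?_).symm
      · intro t ht
        refine Subgroup.mem_centralizer_iff.2 fun r hr => hιinj ?_
        obtain ⟨_, ⟨q, hq, rfl⟩, hqe⟩ := hRmap.le ⟨r, hr, rfl⟩
        obtain ⟨_, ⟨c, hc, rfl⟩, hce⟩ := (hcjmap g _ hCP).2.le ⟨t, ht, rfl⟩
        rw [map_mul, map_mul, ← hqe, ← hce, ← map_mul (MulAut.conj g).toMonoidHom, ← map_mul ι,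
          ← map_mul (MulAut.conj g).toMonoidHom, ← map_mul ι, Subgroup.mem_centralizer_iff.1 hc q hq]
      · obtain ⟨e'⟩ := hcjiso g _ hCP
        rw [← Nat.card_congr e'.toEquiv, ← inf_eq_right.2 hRc, ← inf_eq_right.2 hQ1c,
          ← CfsgLib.LocalEven.card_center_eq_inf, ← CfsgLib.LocalEven.card_center_eq_inf,
          Nat.card_congr (Subgroup.centerCongr e).toEquiv]
    have hxm : (⟨x, hx.1⟩ : B) ∈ Subgroup.centralizer ((Q₁ ⊓ R : Subgroup B) : Set B) := by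
      refine Subgroup.mem_centralizer_iff.2 fun y hy => hιinj ?_
      have h1 := Subgroup.mem_map_of_mem ι hy.1
      have h2 := Subgroup.mem_map_of_mem ι hy.2
      rw [hQ₁, Subgroup.map_sup, hV₀map] at h1
      rw [hRmap, hQ₁, Subgroup.map_sup, hV₀map] at h2
      exact hxy _ ⟨h1, h2⟩
    obtain ⟨a, ha, b, hb, hab⟩ := CfsgLib.LocalEven.large_inf_centralizer_mem hQ1l hRl hxm
    have hZ : (Subgroup.centralizer (Q₁ : Set B)).map ι = (C ⊓ P₀).map ι ⊔ V := by
      rw [hCR, Subgroup.map_sup, hV₀map]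
    refine ⟨_, hZ.le ⟨a, ha, rfl⟩, _, ?_, congrArg ι hab⟩
    rw [← hZ, ← (hcjmap g _ hCP).2, ← hCR']
    exact ⟨b, hb, rfl⟩

end Crit

end CfsgLib.FocalThree
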