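import Cfsg.Agent.Lib.FocalThree.Functor
import Cfsg.Agent.Lib.ConjFunctor.TransferCritical
import Cfsg.Agent.Lib.Transfer.PResidual

/-!
# A minimal group in which the two functors fail to control transfer
-/

set_option autoImplicit false
set_option maxHeartbeats 400000
set_option linter.unusedSectionVars false
set_option linter.style.haveILetI false

open scoped commutatorElement

namespace CfsgLib.FocalThree

open CfsgLib.ConjFunctor
open CfsgLib.FocalOdd (baumann_map omegaOneCenter_spec mem_omegaOneCenter_of omegaOneCenter_map)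

universe u

/-- An element of order prime to `p` centralizing `Ω₁` of an abelian `p`-group centralizes it. -/
theorem commute_of_omega {G : Type*} [Group G] {p : ℕ} {A : Subgroup G} {g : G}
    (hn : ∀ x ∈ A, g * x * g⁻¹ ∈ A) (hc : ∀ a ∈ A, ∀ b ∈ A, a * b = b * a)
    (hp : IsPGroup p A) (hg : (orderOf g).Coprime p)
    (ho : ∀ x ∈ A, x ^ p = 1 → g * x = x * g) : ∀ x ∈ A, g * x = x * g := by
  suffices key : ∀ k : ℕ, ∀ x ∈ A, x ^ p ^ k = 1 → g * x = x * g by
    intro x hx
    obtain ⟨k, hk⟩ := hp ⟨x, hx⟩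
    exact key k x hx (congrArg Subtype.val hk)
  intro k
  induction k with
  | zero => intro x _ h1; rw [pow_zero, pow_one] at h1; rw [h1, one_mul, mul_one]
  | succ k ih =>
    intro x hx h1
    have hxp : g * x ^ p = x ^ p * g := ih _ (pow_mem hx p) (by rw [← pow_mul, ← pow_succ']; exact h1)
    set d := g * x * g⁻¹ * x⁻¹ with hd
    have hdA : d ∈ A := mul_mem (hn x hx) (inv_mem hx)
    have hdp : d ^ p = 1 := by
      rw [hd, (show Commute (g * x * g⁻¹) x⁻¹ from hc _ (hn x hx) _ (inv_mem hx)).mul_pow, conj_pow,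
        hxp, mul_inv_cancel_right, inv_pow, mul_inv_cancel]
    have hgd : g * d = d * g := ho d hdA hdp
    have hm : ∀ m : ℕ, g ^ m * x * (g ^ m)⁻¹ = d ^ m * x := by
      intro m
      induction m with
      | zero => simp
      | succ m ihm =>
        calc g ^ (m + 1) * x * (g ^ (m + 1))⁻¹ = g * (g ^ m * x * (g ^ m)⁻¹) * g⁻¹ := by
              rw [pow_succ']; group
          _ = g * d ^ m * g⁻¹ * (g * x * g⁻¹ * x⁻¹) * x := by rw [ihm]; group
          _ = d ^ (m + 1) * x := by
              rw [← hd, (show Commute g (d ^ m) from Commute.pow_right hgd m).eq, mul_inv_cancel_right,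
                pow_succ]
    have h2 := hm (orderOf g)
    rw [pow_orderOf_eq_one, one_mul, inv_one, mul_one] at h2
    have h3 : d ^ orderOf g = 1 := mul_eq_right.1 h2.symm
    have hd1 : d = 1 := orderOf_eq_one_iff.1 (Nat.eq_one_of_dvd_coprimes hg
      (orderOf_dvd_of_pow_eq_one h3) (orderOf_dvd_of_pow_eq_one hdp))
    rwa [hd, mul_inv_eq_one, mul_inv_eq_iff_eq_mul] at hd1

variable {p : ℕ} [Fact p.Prime] {G : Type u} [Group G] [Finite G]

/-- A minimal failure. -/
structure Crit (p : ℕ) [Fact p.Prime] (G : Type u) [Group G] (S : Sylow p G) (M : Subgroup G) :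
    Prop where
  odd : p ≠ 2
  proper : ProperControl p (fam.{u} p) G
  bad : ¬ Cfsg.pCore p G ⊓ commutator G ≤ tgt (fam.{u} p) (S : Subgroup G)
  con : Constrained p G
  Mne : M ≠ ⊤
  Muniq : ∀ H : Subgroup G, (S : Subgroup G) ≤ H → H ≠ ⊤ → H ≤ M
  Mdef : M = Subgroup.normalizer
    ((tgt (fam.{u} p) (S : Subgroup G) ⊓ Cfsg.pCore p G : Subgroup G) : Set G)
  comm : ⁅Cfsg.pCore p G, M⁆ ≤ tgt (fam.{u} p) (S : Subgroup G) ⊓ Cfsg.pCore p G

namespace Crit

variable {S : Sylow p G} {M : Subgroup G}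

theorem not_normal (h : Crit p G S M) {W : ∀ (Q : Type u) [Group Q], Subgroup Q}
    (hW : W ∈ fam.{u} p) : ¬ (Cfsg.inducedFunctor W (S : Subgroup G)).Normal := by
  intro hn
  refine h.bad (le_trans ?_ (le_iSup₂_of_le W hW le_rfl))
  haveI := hn
  rw [Subgroup.normalizer_eq_top, ← commutator_def]
  exact inf_le_inf_right _ (CfsgLib.Solvable.pCore_le_sylow S)

theorem P_le (S : Sylow p G) : Cfsg.pCore p G ≤ (S : Subgroup G) :=
  CfsgLib.Solvable.pCore_le_sylow S

theorem S_le (h : Crit p G S M) : (S : Subgroup G) ≤ M := by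
  refine h.Muniq _ le_rfl fun he => h.not_normal (cFun_mem p) ?_
  exact normal_inducedFunctor_of_normal (fam_isCharP _ (cFun_mem p)) S.isPGroup'
    (by rw [he]; infer_instance)

theorem normalizer_S_le (h : Crit p G S M) : Subgroup.normalizer ((S : Subgroup G) : Set G) ≤ M := by
  refine h.Muniq _ Subgroup.le_normalizer fun he => h.not_normal (cFun_mem p) ?_
  exact normal_inducedFunctor_of_normal (fam_isCharP _ (cFun_mem p)) S.isPGroup'
    (Subgroup.normalizer_eq_top_iff.1 he)

/-- A normal subgroup containing `S` is everything. -/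
theorem eq_top_of_S_le (h : Crit p G S M) {N : Subgroup G} (hN : N.Normal)
    (hSN : (S : Subgroup G) ≤ N) : N = ⊤ := by
  haveI := hN
  by_contra hne
  refine h.Mne (top_le_iff.1 fun g _ => ?_)
  obtain ⟨c, hc, hcg⟩ := frattini_argument S N g
  rw [inf_eq_left.2 hSN] at hcg
  simpa using mul_mem (inv_mem (h.Muniq N hSN hne hc)) (h.normalizer_S_le hcg)

theorem zS_le_P (h : Crit p G S M) :
    (S : Subgroup G) ⊓ Subgroup.centralizer ((S : Subgroup G) : Set G) ≤ Cfsg.pCore p G := fun _ hx =>
  h.con (Subgroup.mem_centralizer_iff.2 fun y hy => Subgroup.mem_centralizer_iff.1 hx.2 y (P_le S hy))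

theorem cent_zS_le (h : Crit p G S M) : Subgroup.centralizer
    (((S : Subgroup G) ⊓ Subgroup.centralizer ((S : Subgroup G) : Set G) : Subgroup G) : Set G) ≤ M := by
  refine h.Muniq _ (fun s hs => Subgroup.mem_centralizer_iff.2 fun z hz =>
    (Subgroup.mem_centralizer_iff.1 hz.2 s hs).symm) fun he => h.not_normal (cFun_mem p) ?_
  rw [inducedFunctor_cFun]
  refine ⟨fun z hz g => ?_⟩
  have e := Subgroup.mem_centralizer_iff.1 (he.ge (Subgroup.mem_top g)) z hz
  rw [← e, mul_inv_cancel_right]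
  exact hz

theorem normal_V (p : ℕ) [Fact p.Prime] (G : Type u) [Group G] :
    (Cfsg.omegaOneCenter p (Cfsg.pCore p G)).Normal := by
  haveI := CfsgLib.Solvable.pCore_normal p G
  refine Subgroup.normalizer_eq_top_iff.1 (top_le_iff.1 fun g _ => ?_)
  refine CfsgLib.PLocal.mem_normalizer_of_map_conj_eq ?_
  rw [omegaOneCenter_map (MulAut.conj g).injective,
    CfsgLib.PLocal.map_conj_eq_of_mem_normalizer (by rw [Subgroup.normalizer_eq_top]; trivial)]

theorem cent_V_le (h : Crit p G S M) :
    Subgroup.centralizer (Cfsg.omegaOneCenter p (Cfsg.pCore p G) : Set G) ≤ M := by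
  haveI := normal_V p G
  haveI hPn := CfsgLib.Solvable.pCore_normal p G
  set C := Subgroup.centralizer (Cfsg.omegaOneCenter p (Cfsg.pCore p G) : Set G) with hC
  by_cases htop : C ⊔ (S : Subgroup G) = ⊤
  swap
  · exact le_sup_left.trans (h.Muniq _ le_sup_right htop)
  exfalso
  have hres : Cfsg.pResidual p G ≤ C := by
    let f := (QuotientGroup.mk' C).comp (S : Subgroup G).subtype
    have hs : Function.Surjective f := by
      intro q
      obtain ⟨g, rfl⟩ := QuotientGroup.mk'_surjective C q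
      obtain ⟨c, hc, s, hs, rfl⟩ := Subgroup.mem_sup_of_normal_left.1 (htop.ge (Subgroup.mem_top g))
      refine ⟨⟨s, hs⟩, ?_⟩
      show QuotientGroup.mk' C s = QuotientGroup.mk' C (c * s)
      rw [map_mul, show QuotientGroup.mk' C c = 1 from (QuotientGroup.eq_one_iff c).2 hc, one_mul]
    exact (CfsgLib.Transfer.pResidual_le_ker_of_isPGroup (S.isPGroup'.of_surjective f hs)
      (QuotientGroup.mk' C)).trans (QuotientGroup.ker_mk' C).le
  refine h.Mne (top_le_iff.1 (le_trans ?_ h.cent_zS_le))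
  rw [← CfsgLib.Transfer.pResidual_sup_of_sylow S]
  refine sup_le ((Subgroup.closure_le _).2 fun g hg => ?_) fun s hs =>
    Subgroup.mem_centralizer_iff.2 fun z hz => (Subgroup.mem_centralizer_iff.1 hz.2 s hs).symm
  set A := Cfsg.pCore p G ⊓ Subgroup.centralizer (Cfsg.pCore p G : Set G) with hA
  refine Subgroup.mem_centralizer_iff.2 fun z hz => ?_
  refine (commute_of_omega (A := A) (fun x hx => ?_) (fun a ha b hb => ?_)
    ((CfsgLib.Solvable.pCore_isPGroup p G).to_le inf_le_left) hg (fun x hx hxp => ?_) z ?_).symm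
  · haveI : A.Normal := by rw [hA]; infer_instance
    exact Subgroup.Normal.conj_mem inferInstance x hx g
  · exact Subgroup.mem_centralizer_iff.1 hb.2 a ha.1
  · exact (Subgroup.mem_centralizer_iff.1 (hres (Subgroup.subset_closure hg)) x
      (mem_omegaOneCenter_of hx.1 (Subgroup.mem_centralizer_iff.1 hx.2) hxp)).symm
  · exact ⟨h.zS_le_P hz, Subgroup.mem_centralizer_iff.2 fun y hy =>
      Subgroup.mem_centralizer_iff.1 hz.2 y (P_le S hy)⟩

theorem T_comm_le (h : Crit p G S M) {L : Subgroup G} (hL : L ≤ M) :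
    (S : Subgroup G) ⊓ ⁅L, L⁆ ≤ tgt (fam.{u} p) (S : Subgroup G) :=
  (inf_le_inf_left _ (Subgroup.commutator_mono hL hL)).trans
    (inf_commutator_le_tgt_of_proper fam_isCharP h.proper S h.S_le h.Mne)

theorem J_le_B (S : Sylow p G) :
    Cfsg.thompsonSubgroupOf p (S : Subgroup G) ≤ Cfsg.baumannSubgroupOf p (S : Subgroup G) :=
  le_inf (CfsgLib.PLocal.thompsonSubgroupOf_le p _) fun j hj z hz =>
    ((CfsgLib.PLocal.omegaOne_le p _ hz).2 j hj).symm

/-- `K(S)` is not normal. -/
theorem not_normal_mcl (h : Crit p G S M) : ¬ (Cfsg.inducedFunctor mclFun.{u}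
    (Cfsg.baumannSubgroupOf p (S : Subgroup G))).Normal := by
  rw [← inducedFunctor_kFun S.isPGroup']
  exact h.not_normal (kFun_mem p)

theorem normalizer_B_le (h : Crit p G S M) : Subgroup.normalizer
    ((Cfsg.baumannSubgroupOf p (S : Subgroup G) : Subgroup G) : Set G) ≤ M := by
  set B := Cfsg.baumannSubgroupOf p (S : Subgroup G) with hB
  refine (normalizer_le_functor (isConjugacyFunctor_inducedFunctor isCharPFunctor_mclFun.{u})
    (S.isPGroup'.to_le inf_le_left : IsPGroup p B)).trans (h.Muniq _ ?_ fun he => h.not_normal_mcl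
      (Subgroup.normalizer_eq_top_iff.1 he))
  have hS := (normalizer_le_functor (isConjugacyFunctor_inducedFunctor isCharPFunctor_kFun.{u})
    (S.isPGroup' : IsPGroup p (S : Subgroup G))).trans' Subgroup.le_normalizer
  rwa [inducedFunctor_kFun S.isPGroup'] at hS

theorem not_normal_J (h : Crit p G S M) :
    ¬ (Cfsg.thompsonSubgroupOf p (S : Subgroup G)).Normal := by
  intro hn
  haveI := hn
  haveI hPn := CfsgLib.Solvable.pCore_normal p G
  set J := Cfsg.thompsonSubgroupOf p (S : Subgroup G) with hJ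
  set Z0 := Cfsg.omegaOne p (Cfsg.centerThompsonOf p (S : Subgroup G)) with hZ0
  have hJP : J ≤ Cfsg.pCore p G := CfsgLib.Solvable.le_pCore hn
    (S.isPGroup'.to_le (CfsgLib.PLocal.thompsonSubgroupOf_le p _))
  haveI : Z0.Normal := by
    refine Subgroup.normalizer_eq_top_iff.1 (top_le_iff.1 fun g _ => ?_)
    refine CfsgLib.PLocal.mem_normalizer_of_map_conj_eq ?_
    rw [hZ0, Cfsg.centerThompsonOf,
      CfsgLib.PLocal.omegaCenter_map (f := (MulAut.conj g).toMonoidHom) (MulAut.conj g).injective,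
      CfsgLib.PLocal.map_conj_eq_of_mem_normalizer (by rw [Subgroup.normalizer_eq_top]; trivial)]
  obtain ⟨A, hA⟩ := CfsgLib.PLocal.exists_maxEAIn p (S : Subgroup G)
  have hAJ : A ≤ J := by
    rw [hJ, CfsgLib.PLocal.thompsonSubgroupOf_eq]
    exact le_sSup hA
  have hVZ : Cfsg.omegaOneCenter p (Cfsg.pCore p G) ≤ Z0 := fun v hv => by
    obtain ⟨hvP, hvc, hvp⟩ := omegaOneCenter_spec hv
    refine CfsgLib.PLocal.mem_omegaOne ⟨hAJ (CfsgLib.PLocal.mem_maxEAIn_of_centralizing hA
      (P_le S hvP) (Subgroup.mem_centralizer_iff.2 fun a ha => hvc a (hJP (hAJ ha))) hvp), ?_⟩ hvp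
    exact Subgroup.mem_centralizer_iff.2 fun j hj => hvc j (hJP hj)
  refine h.Mne (top_le_iff.1 fun g _ => ?_)
  obtain ⟨c, hc, hcg⟩ := frattini_argument S (Subgroup.centralizer (Z0 : Set G)) g
  simpa using mul_mem (inv_mem (((Subgroup.centralizer_le hVZ).trans h.cent_V_le) hc))
    (h.normalizer_B_le hcg)

theorem normalizer_J_le (h : Crit p G S M) :
    Subgroup.normalizer (Cfsg.thompsonSubgroupOf p (S : Subgroup G) : Set G) ≤ M :=
  h.Muniq _ (Subgroup.le_normalizer.trans
    (CfsgLib.PLocal.normalizer_le_normalizer_thompsonSubgroupOf _))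
    fun he => h.not_normal_J (Subgroup.normalizer_eq_top_iff.1 he)

theorem not_J_le_P (h : Crit p G S M) :
    ¬ Cfsg.thompsonSubgroupOf p (S : Subgroup G) ≤ Cfsg.pCore p G := by
  intro hle
  refine h.not_normal_J ?_
  rw [← CfsgLib.PLocal.thompsonSubgroupOf_eq_of_le (P_le S) hle]
  haveI := CfsgLib.Solvable.pCore_normal p G
  refine Subgroup.normalizer_eq_top_iff.1 (top_le_iff.1 ?_)
  refine le_trans ?_ (CfsgLib.PLocal.normalizer_le_normalizer_thompsonSubgroupOf _)
  rw [Subgroup.normalizer_eq_top]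

/-- Control inside a proper subgroup containing `B(S)`, with Sylow subgroup `S ∩ L`. -/
theorem inf_comm_le (h : Crit p G S M) {L : Subgroup G} (hL : L ≠ ⊤)
    (hBL : Cfsg.baumannSubgroupOf p (S : Subgroup G) ≤ L)
    (hsyl : IsSyl p ((S : Subgroup G) ⊓ L) L)
    (hz : (S : Subgroup G) ⊓ ⁅L ⊓ Subgroup.normalizer
        (((S : Subgroup G) ⊓ L ⊓ Subgroup.centralizer (((S : Subgroup G) ⊓ L : Subgroup G) : Set G) :
          Subgroup G) : Set G),
      L ⊓ Subgroup.normalizer
        (((S : Subgroup G) ⊓ L ⊓ Subgroup.centralizer (((S : Subgroup G) ⊓ L : Subgroup G) : Set G) :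
          Subgroup G) : Set G)⁆ ≤ tgt (fam.{u} p) (S : Subgroup G)) :
    (S : Subgroup G) ⊓ L ⊓ ⁅L, L⁆ ≤ tgt (fam.{u} p) (S : Subgroup G) := by
  set R := (S : Subgroup G) ⊓ L with hR
  set B := Cfsg.baumannSubgroupOf p (S : Subgroup G) with hB
  have hBR : B ≤ R := le_inf inf_le_left hBL
  have hJR : Cfsg.thompsonSubgroupOf p R = Cfsg.thompsonSubgroupOf p (S : Subgroup G) :=
    CfsgLib.PLocal.thompsonSubgroupOf_eq_of_le inf_le_left ((J_le_B S).trans hBR)
  have hBBR : Cfsg.baumannSubgroupOf p R = B := by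
    refine le_antisymm ?_ (le_inf hBR ?_)
    · rw [hB, Cfsg.baumannSubgroupOf, Cfsg.baumannSubgroupOf, Cfsg.centerThompsonOf,
        Cfsg.centerThompsonOf, hJR]
      exact inf_le_inf_right _ inf_le_left
    · rw [hB, Cfsg.baumannSubgroupOf, Cfsg.centerThompsonOf, Cfsg.centerThompsonOf, hJR]
      exact inf_le_right
  obtain ⟨S', hS'T, hS'⟩ := exists_sylow_map hsyl
  have hcard : Nat.card ↥L < Nat.card G :=
    (Subgroup.card_le_card_group L).lt_of_ne fun he => hL (Subgroup.eq_top_of_card_eq L he)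
  have h1 := h.proper ↥L (isSec_self.subgroup L) hcard S'
  rintro x ⟨hxT, hxc⟩
  rw [← Subgroup.range_subtype L, MonoidHom.range_eq_map, ← Subgroup.map_commutator,
    ← commutator_def] at hxc
  obtain ⟨y, hy, rfl⟩ := hxc
  have hyS : y ∈ (S' : Subgroup L) := by rw [hS']; exact hxT
  refine SetLike.le_def.1 ?_ (Subgroup.mem_map_of_mem L.subtype (h1 ⟨hyS, hy⟩))
  rw [tgt, Subgroup.map_iSup]
  refine iSup_le fun W => ?_
  rw [Subgroup.map_iSup]
  refine iSup_le fun hW => ?_
  rw [Subgroup.map_inf _ _ _ L.subtype_injective, Subgroup.map_commutator, hS'T]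
  have hN : (Subgroup.normalizer ((Cfsg.inducedFunctor W (S' : Subgroup L) : Subgroup L) :
      Set L)).map L.subtype ≤ L ⊓ Subgroup.normalizer
        ((Cfsg.inducedFunctor W R : Subgroup G) : Set G) := by
    refine le_inf (Subgroup.map_subtype_le _) ((Subgroup.le_normalizer_map L.subtype).trans ?_)
    rw [← inducedFunctor_subtype (fam_isCharP W hW) L _ S'.isPGroup', hS'T]
  refine (inf_le_inf (inf_le_left : R ≤ (S : Subgroup G)) (Subgroup.commutator_mono hN hN)).trans ?_
  rcases hW with rfl | rfl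
  · rw [inducedFunctor_cFun]
    exact hz
  · have hRS : IsPGroup p R := S.isPGroup'.to_le inf_le_left
    rw [inducedFunctor_kFun hRS, hBBR, hB, ← inducedFunctor_kFun S.isPGroup']
    exact (inf_le_inf_left _ (Subgroup.commutator_mono inf_le_right inf_le_right)).trans
      (le_iSup₂_of_le _ (kFun_mem p) le_rfl)

theorem overgroup_aux (h : Crit p G S M) :
    ∀ n, ∀ L : Subgroup G, Nat.card L < n → L ≠ ⊤ → Cfsg.pCore p G ≤ L →
      Cfsg.baumannSubgroupOf p (S : Subgroup G) ≤ L → L ≤ M := by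
  intro n
  induction n with
  | zero => intro L hc; omega
  | succ n ih =>
    intro L hc hL hPL hBL
    haveI hPn := CfsgLib.Solvable.pCore_normal p G
    set P := Cfsg.pCore p G
    set B := Cfsg.baumannSubgroupOf p (S : Subgroup G) with hB
    set J := Cfsg.thompsonSubgroupOf p (S : Subgroup G) with hJ
    have hPBp : IsPGroup p (P ⊔ B : Subgroup G) := S.isPGroup'.to_le (sup_le (P_le S) inf_le_left)
    obtain ⟨R₀, hR₀⟩ := (hPBp.of_equiv (Subgroup.subgroupOfEquivOfLe (sup_le hPL hBL)).symm).exists_le_sylow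
    set R := (R₀ : Subgroup L).map L.subtype with hR
    have hBR : P ⊔ B ≤ R := fun x hx => ⟨⟨x, sup_le hPL hBL hx⟩, hR₀ hx, rfl⟩
    obtain ⟨S₁, hS₁⟩ := (R₀.isPGroup'.map L.subtype).exists_le_sylow
    obtain ⟨c, hcS⟩ := MulAction.exists_smul_eq G S₁ S
    set cc := (MulAut.conj c).toMonoidHom with hcc
    have hRS : R.map cc ≤ (S : Subgroup G) := by
      rw [← hcS, Sylow.coe_subgroup_smul]
      exact Subgroup.map_mono hS₁
    have hJR : J ≤ R := ((J_le_B S).trans le_sup_right).trans hBR
    have hJc : J.map cc = J := by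
      refine Subgroup.eq_of_le_of_card_ge ?_
        (Subgroup.card_map_of_injective (MulAut.conj c).injective).ge
      rw [hJ, CfsgLib.PLocal.thompsonSubgroupOf_eq, Subgroup.map_le_iff_le_comap]
      refine sSup_le fun A hA => ?_
      rw [← Subgroup.map_le_iff_le_comap]
      refine le_sSup ⟨(Subgroup.map_mono (((le_sSup hA).trans
        (CfsgLib.PLocal.thompsonSubgroupOf_eq p (S : Subgroup G)).ge).trans hJR)).trans hRS,
        CfsgLib.PLocal.isEA_map hA.2.1 _, fun C hC hCe => ?_⟩
      rw [Subgroup.card_map_of_injective (MulAut.conj c).injective]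
      exact hA.2.2 C hC hCe
    have hcM : c ∈ M := h.normalizer_J_le (CfsgLib.PLocal.mem_normalizer_of_map_conj_eq hJc)
    have hBc : B.map cc = B := by
      refine Subgroup.eq_of_le_of_card_ge ?_
        (Subgroup.card_map_of_injective (MulAut.conj c).injective).ge
      refine le_inf ((Subgroup.map_mono (le_sup_right.trans hBR)).trans hRS) ?_
      have hX : (Cfsg.omegaOne p (Cfsg.centerThompsonOf p (S : Subgroup G))).map cc =
          Cfsg.omegaOne p (Cfsg.centerThompsonOf p (S : Subgroup G)) := by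
        rw [Cfsg.centerThompsonOf, CfsgLib.PLocal.omegaCenter_map (f := cc) (MulAut.conj c).injective,
          ← hJ, hJc]
      rw [Subgroup.map_le_iff_le_comap]
      intro b hb
      rw [Subgroup.mem_comap, ← hX, Subgroup.mem_centralizer_iff]
      rintro _ ⟨z, hz, rfl⟩
      rw [← map_mul, ← map_mul, Subgroup.mem_centralizer_iff.1 hb.2 z hz]
    -- move `L`
    suffices hL' : L.map cc ≤ M by
      intro x hx
      have h1 : c * x * c⁻¹ ∈ M := hL' ⟨x, hx, rfl⟩
      have h2 := mul_mem (mul_mem (inv_mem hcM) h1) hcM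
      simpa [mul_assoc] using h2
    have hPL' : P ≤ L.map cc := by
      intro x hx
      exact ⟨c⁻¹ * x * c, hPL (by simpa using hPn.conj_mem x hx c⁻¹), by simp [hcc, mul_assoc]⟩
    have hBL' : B ≤ L.map cc := hBc.ge.trans (Subgroup.map_mono hBL)
    have hc' : Nat.card ↥(L.map cc) ≤ n := by
      rw [Subgroup.card_map_of_injective (MulAut.conj c).injective]; omega
    have hLtop : L.map cc ≠ ⊤ := fun he => hL (Subgroup.eq_top_of_card_eq L (by
      rw [← Subgroup.card_map_of_injective (f := cc) (MulAut.conj c).injective, he, Subgroup.card_top]))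
    set L' := L.map cc with hL'def
    have hsyl : IsSyl p ((S : Subgroup G) ⊓ L') L' := by
      refine ⟨inf_le_right, S.isPGroup'.to_le inf_le_left, fun hd => ?_⟩
      have h1 : R.map cc ≤ (S : Subgroup G) ⊓ L' := le_inf hRS (Subgroup.map_mono (Subgroup.map_subtype_le _))
      have h2 := hd.trans (Subgroup.relIndex_dvd_of_le_left L' h1)
      rw [hL'def, Subgroup.relIndex_map_map_of_injective _ _ (MulAut.conj c).injective, hR] at h2
      have h3 : ((R₀ : Subgroup L).map L.subtype).relIndex L = (R₀ : Subgroup L).index := by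
        rw [Subgroup.relIndex, Subgroup.subgroupOf, Subgroup.comap_map_eq_self_of_injective L.subtype_injective]
      rw [h3] at h2
      exact R₀.not_dvd_index h2
    set R' := (S : Subgroup G) ⊓ L' with hR'
    set Z' := R' ⊓ Subgroup.centralizer (R' : Set G) with hZ'
    have hBR' : B ≤ R' := le_inf inf_le_left hBL'
    have hPR' : P ≤ R' := le_inf (P_le S) hPL'
    have hRC : R' ≤ Subgroup.centralizer (Z' : Set G) := fun r hr =>
      Subgroup.mem_centralizer_iff.2 fun z hz => (Subgroup.mem_centralizer_iff.1 hz.2 r hr).symm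
    have hSN : R' ≤ Subgroup.normalizer (Z' : Set G) :=
      hRC.trans (Subgroup.centralizer_le_normalizer _)
    set N := L' ⊓ Subgroup.normalizer (Z' : Set G) with hN
    suffices hNM : N ≤ M by
      by_cases he : N = L'
      · exact he ▸ hNM
      · have h1 := h.inf_comm_le hLtop hBL' hsyl (h.T_comm_le hNM)
        rw [h.Mdef, Subgroup.le_normalizer_iff_commutator_le_right, Subgroup.commutator_comm]
        refine le_trans ?_ (le_inf (le_trans (le_inf (le_inf ?_ ?_) ?_) h1) (Subgroup.commutator_le_left P L'))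
        · exact Subgroup.commutator_mono inf_le_right le_rfl
        · exact (Subgroup.commutator_le_left P L').trans (P_le S)
        · exact (Subgroup.commutator_le_left P L').trans hPL'
        · exact Subgroup.commutator_mono hPL' le_rfl
    by_cases he : N = L'
    · -- `L'` normalizes `Z(R')`
      rw [he]
      set C := L' ⊓ Subgroup.centralizer (Z' : Set G) with hC
      have hCM : C ≤ M := by
        refine (inf_le_right.trans (Subgroup.centralizer_le fun z hz => ?_)).trans h.cent_zS_le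
        exact ⟨hPR' (h.zS_le_P hz), Subgroup.mem_centralizer_iff.2 fun y hy =>
          Subgroup.mem_centralizer_iff.1 hz.2 y hy.1⟩
      obtain ⟨S₂, hS₂T, -⟩ := exists_sylow_map hsyl
      haveI : (C.subgroupOf L').Normal := by
        refine ⟨fun x hx g => Subgroup.mem_subgroupOf.2 ⟨(g * x * g⁻¹).2,
          Subgroup.mem_centralizer_iff.2 fun z hz => ?_⟩⟩
        have hg : (g : G) ∈ Subgroup.normalizer (Z' : Set G) := (he.ge g.2).2
        have hz' := (Subgroup.mem_normalizer_iff''.1 hg z).1 hz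
        have e := Subgroup.mem_centralizer_iff.1 (Subgroup.mem_subgroupOf.1 hx).2 _ hz'
        simp only [Subgroup.coe_mul, Subgroup.coe_inv]
        calc z * ((g : G) * x * (g : G)⁻¹) = (g : G) * ((g : G)⁻¹ * z * g * x) * (g : G)⁻¹ := by group
          _ = (g : G) * (x * ((g : G)⁻¹ * z * g)) * (g : G)⁻¹ := by rw [e]
          _ = (g : G) * x * (g : G)⁻¹ * z := by group
      intro x hx
      obtain ⟨c₁, hc₁, hn⟩ := frattini_argument S₂ (C.subgroupOf L') ⟨x, hx⟩
      have hS₂C : (S₂ : Subgroup L') ≤ C.subgroupOf L' := fun r hr =>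
        Subgroup.mem_subgroupOf.2 ⟨r.2, hRC (hS₂T.le ⟨r, hr, rfl⟩)⟩
      rw [inf_eq_left.2 hS₂C] at hn
      have h1 : ((c₁ * ⟨x, hx⟩ : L') : G) ∈ Subgroup.normalizer (R' : Set G) := by
        have h2 := Subgroup.le_normalizer_map L'.subtype ⟨_, hn, rfl⟩
        rwa [hS₂T] at h2
      have h2 := CfsgLib.PLocal.normalizer_le_normalizer_thompsonSubgroupOf (p := p) _ h1
      rw [CfsgLib.PLocal.thompsonSubgroupOf_eq_of_le (U := R') inf_le_left ((J_le_B S).trans hBR')] at h2
      have h3 := mul_mem (inv_mem (hCM (Subgroup.mem_subgroupOf.1 hc₁))) (h.normalizer_J_le h2)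
      simpa using h3
    · refine ih N ?_ (fun ht => he (le_antisymm inf_le_left (ht ▸ le_top)))
        (le_inf hPL' (hPR'.trans hSN)) (le_inf hBL' (hBR'.trans hSN))
      refine lt_of_lt_of_le (lt_of_not_ge fun hge => he ?_) hc'
      exact Subgroup.eq_of_le_of_card_ge inf_le_left hge

/-- Proper subgroups over `O_p(G) B(S)` lie in `M`. -/
theorem overgroup (h : Crit p G S M) {L : Subgroup G} (hL : L ≠ ⊤)
    (hP : Cfsg.pCore p G ≤ L) (hB : Cfsg.baumannSubgroupOf p (S : Subgroup G) ≤ L) : L ≤ M :=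
  h.overgroup_aux (Nat.card L + 1) L (Nat.lt_succ_self _) hL hP hB

end Crit

end CfsgLib.FocalThree
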