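import Cfsg.Agent.Lib.LocalEven.CDBasic
import Cfsg.Agent.Lib.LocalEven.CLReplace
import Cfsg.Agent.Lib.PLocal.Factorization

/-!
# The upper central layers of a product of two abelian subgroups
-/

set_option autoImplicit false
set_option maxHeartbeats 400000
set_option linter.unusedSectionVars false
set_option linter.style.haveILetI false

open scoped commutatorElement

namespace CfsgLib.FocalThree

variable {G : Type*} [Group G]

/-- The upper central series of a subgroup, inside the group. -/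
def ucs (W : Subgroup G) (j : ℕ) : Subgroup G :=
  (Subgroup.upperCentralSeries ↥W j).map W.subtype

theorem ucs_le (W : Subgroup G) (j : ℕ) : ucs W j ≤ W := Subgroup.map_subtype_le _

theorem ucs_zero (W : Subgroup G) : ucs W 0 = ⊥ := by
  rw [ucs, Subgroup.upperCentralSeries_zero, Subgroup.map_bot]

theorem mem_ucs_succ {W : Subgroup G} {j : ℕ} {x : G} :
    x ∈ ucs W (j + 1) ↔ x ∈ W ∧ ∀ y ∈ W, ⁅x, y⁆ ∈ ucs W j := by
  constructor
  · rintro ⟨x, hx, rfl⟩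
    refine ⟨x.2, fun y hy => ?_⟩
    exact ⟨⁅x, ⟨y, hy⟩⁆, Subgroup.mem_upperCentralSeries_succ_iff.1 hx ⟨y, hy⟩, rfl⟩
  · rintro ⟨hxW, hx⟩
    refine ⟨⟨x, hxW⟩, Subgroup.mem_upperCentralSeries_succ_iff.2 fun y => ?_, rfl⟩
    exact (Subgroup.mem_map_iff_mem W.subtype_injective).1 (hx y y.2)

theorem mem_ucs_one {W : Subgroup G} {x : G} :
    x ∈ ucs W 1 ↔ x ∈ W ∧ ∀ y ∈ W, x * y = y * x := by
  rw [mem_ucs_succ, ucs_zero]
  simp only [Subgroup.mem_bot, commutatorElement_eq_one_iff_mul_comm]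

theorem ucs_mono (W : Subgroup G) {i j : ℕ} (h : i ≤ j) : ucs W i ≤ ucs W j :=
  Subgroup.map_mono (Subgroup.upperCentralSeries_mono ↥W h)

theorem exists_ucs_eq {p : ℕ} [Fact p.Prime] [Finite G] {W : Subgroup G} (hW : IsPGroup p W) :
    ∃ n, ∀ m, n ≤ m → ucs W m = W := by
  haveI : Group.IsNilpotent W := hW.isNilpotent
  obtain ⟨n, hn⟩ := Group.IsNilpotent.nilpotent' (G := W)
  refine ⟨n, fun m hm => le_antisymm (ucs_le W m) (le_trans ?_ (ucs_mono W hm))⟩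
  rw [ucs, hn, ← MonoidHom.range_eq_map, Subgroup.range_subtype]

theorem ucs_conj {W : Subgroup G} {g : G} (hg : g ∈ Subgroup.normalizer (W : Set G)) :
    ∀ (j : ℕ) {x : G}, x ∈ ucs W j → g * x * g⁻¹ ∈ ucs W j := by
  intro j
  induction j with
  | zero =>
    intro x hx
    rw [ucs_zero, Subgroup.mem_bot] at hx ⊢
    rw [hx, mul_one, mul_inv_cancel]
  | succ j ih =>
    intro x hx
    rw [mem_ucs_succ] at hx ⊢
    refine ⟨(Subgroup.mem_normalizer_iff.1 hg x).1 hx.1, fun y hy => ?_⟩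
    have h := ih (hx.2 _ ((Subgroup.mem_normalizer_iff''.1 hg y).1 hy))
    convert h using 1
    simp only [commutatorElement_def]; group

theorem normalizer_le_normalizer_ucs (W : Subgroup G) (j : ℕ) :
    Subgroup.normalizer (W : Set G) ≤ Subgroup.normalizer (ucs W j : Set G) := by
  intro g hg
  refine Subgroup.mem_normalizer_iff.2 fun x => ⟨ucs_conj hg j, fun hx => ?_⟩
  have h := ucs_conj (inv_mem hg) j hx
  simpa [mul_assoc] using h

variable [Finite G] {p : ℕ} [Fact p.Prime] {W A B : Subgroup G}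

theorem card_mul_card_le_of_prod (hA : A ≤ W) (hB : B ≤ W)
    (hprod : ∀ w ∈ W, ∃ a ∈ A, ∃ b ∈ B, w = a * b) :
    Nat.card ↥(A ⊓ B) * Nat.card W ≤ Nat.card A * Nat.card B := by
  have h1 : A.relIndex W ≤ A.relIndex B := by
    let i : B → W := fun b => ⟨b, hB b.2⟩
    refine Nat.card_le_card_of_surjective (Quotient.map' i fun a b hab => ?_) ?_
    · rw [QuotientGroup.leftRel_apply] at hab ⊢
      exact hab
    · intro q
      induction q using QuotientGroup.induction_on with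
      | H w =>
        obtain ⟨a, ha, b, hb, hab⟩ := hprod _ (inv_mem w.2)
        refine ⟨((⟨b⁻¹, inv_mem hb⟩ : B) : B ⧸ A.subgroupOf B), QuotientGroup.eq.2 ?_⟩
        show b⁻¹⁻¹ * (w : G) ∈ A
        rw [← inv_inv (w : G), hab]
        simpa using inv_mem ha
  calc Nat.card ↥(A ⊓ B) * Nat.card W
      = Nat.card ↥(A ⊓ B) * (Nat.card A * A.relIndex W) := by
        rw [← CfsgLib.LocalEven.CLP.card_mul_relIndex_eq (H := A) (K := W), inf_eq_left.2 hA]
    _ ≤ Nat.card ↥(A ⊓ B) * (Nat.card A * A.relIndex B) :=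
        Nat.mul_le_mul_left _ (Nat.mul_le_mul_left _ h1)
    _ = Nat.card A * Nat.card B := by
        rw [← CfsgLib.LocalEven.CLP.card_mul_relIndex_eq (H := A) (K := B)]; ring

theorem disjoint_layer (hA : A ≤ W) (hB : B ≤ W) (hAc : ∀ a ∈ A, ∀ a' ∈ A, a * a' = a' * a)
    (hBc : ∀ b ∈ B, ∀ b' ∈ B, b * b' = b' * b) (hprod : ∀ w ∈ W, ∃ a ∈ A, ∃ b ∈ B, w = a * b)
    (j : ℕ) {a b : G} (ha : a ∈ A ⊓ ucs W (j + 2)) (hb : b ∈ B ⊓ ucs W (j + 2))
    (hab : a⁻¹ * b ∈ ucs W (j + 1)) : a ∈ ucs W (j + 1) := by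
  refine mem_ucs_succ.2 ⟨hA ha.1, fun t ht => ?_⟩
  obtain ⟨a', ha', b', hb', rfl⟩ := hprod t ht
  have e1 : ⁅a, a' * b'⁆ = a' * ⁅a, b'⁆ * a'⁻¹ := by
    have e : a * a' = a' * a := hAc a ha.1 a' ha'
    calc ⁅a, a' * b'⁆ = a * a' * b' * a⁻¹ * b'⁻¹ * a'⁻¹ := by
          simp only [commutatorElement_def]; group
      _ = a' * ⁅a, b'⁆ * a'⁻¹ := by rw [e]; simp only [commutatorElement_def]; group
  have e2 : ⁅a, b'⁆ = b * ⁅(a⁻¹ * b)⁻¹, b'⁆ * b⁻¹ := by
    have e : b * b' = b' * b := hBc b hb.1 b' hb'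
    calc ⁅a, b'⁆ = b * ((a⁻¹ * b)⁻¹ * b' * (a⁻¹ * b)) * b⁻¹ * b'⁻¹ := by
          simp only [commutatorElement_def]; group
      _ = b * ((a⁻¹ * b)⁻¹ * b' * (a⁻¹ * b)) * (b' * b)⁻¹ := by group
      _ = b * ((a⁻¹ * b)⁻¹ * b' * (a⁻¹ * b)) * (b * b')⁻¹ := by rw [e]
      _ = b * ⁅(a⁻¹ * b)⁻¹, b'⁆ * b⁻¹ := by simp only [commutatorElement_def]; group
  have h := (mem_ucs_succ.1 (inv_mem hab)).2 b' (hB hb')
  rw [e1, e2]
  exact ucs_conj (Subgroup.le_normalizer (hA ha')) j (ucs_conj (Subgroup.le_normalizer (hB hb.1)) j h)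

theorem layer_split (hWp : IsPGroup p W) (hA : A ≤ W) (hB : B ≤ W)
    (hAc : ∀ a ∈ A, ∀ a' ∈ A, a * a' = a' * a) (hBc : ∀ b ∈ B, ∀ b' ∈ B, b * b' = b' * b)
    (hprod : ∀ w ∈ W, ∃ a ∈ A, ∃ b ∈ B, w = a * b) (j : ℕ) :
    ∀ z ∈ ucs W (j + 2), ∃ a ∈ A ⊓ ucs W (j + 2), ∃ b ∈ B ⊓ ucs W (j + 2), ∃ c ∈ ucs W (j + 1),
      z = a * b * c := by
  set d := Nat.card ↥(A ⊓ B) with hd
  set fa : ℕ → ℕ := fun i => Nat.card ↥(A ⊓ ucs W i) * Nat.card ↥(B ⊓ ucs W i) with hfa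
  set fc : ℕ → ℕ := fun i => Nat.card ↥(ucs W i) with hfc
  have hn : ∀ i, ucs W (i + 1) ≤ Subgroup.normalizer (ucs W i : Set G) := fun i =>
    (ucs_le W _).trans (Subgroup.le_normalizer.trans (normalizer_le_normalizer_ucs W i))
  -- one step
  have hXY : ∀ i, ∀ X : Subgroup G, X ≤ ucs W (i + 2) → Nat.card ↥(X ⊔ ucs W (i + 1)) *
      Nat.card ↥(X ⊓ ucs W (i + 1)) = Nat.card X * fc (i + 1) := fun i X hX =>
    CfsgLib.PLoc.card_sup_mul_card_inf (hX.trans (hn (i + 1)))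
  have hinf : ∀ i, ((A ⊓ ucs W (i + 2)) ⊔ ucs W (i + 1)) ⊓ ((B ⊓ ucs W (i + 2)) ⊔ ucs W (i + 1)) ≤
      ucs W (i + 1) := by
    rintro i x ⟨hx1, hx2⟩
    have e1 : x ∈ (((A ⊓ ucs W (i + 2)) ⊔ ucs W (i + 1) : Subgroup G) : Set G) := hx1
    have e2 : x ∈ (((B ⊓ ucs W (i + 2)) ⊔ ucs W (i + 1) : Subgroup G) : Set G) := hx2
    rw [Subgroup.coe_mul_of_left_le_normalizer_right _ _ (inf_le_right.trans (hn (i + 1)))] at e1 e2
    obtain ⟨a, ha, c, hc, rfl⟩ := e1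
    obtain ⟨b, hb, c', hc', hbc⟩ := e2
    have hab : a⁻¹ * b ∈ ucs W (i + 1) := by
      rw [show a⁻¹ * b = c * c'⁻¹ by
        rw [eq_mul_inv_iff_mul_eq, mul_assoc]
        exact inv_mul_eq_iff_eq_mul.2 hbc]
      exact mul_mem hc (inv_mem hc')
    exact mul_mem (disjoint_layer hA hB hAc hBc hprod i ha hb hab) hc
  have hprodXY : ∀ i, Nat.card ↥((A ⊓ ucs W (i + 2)) ⊔ ucs W (i + 1)) *
      Nat.card ↥((B ⊓ ucs W (i + 2)) ⊔ ucs W (i + 1)) * fa (i + 1) = fa (i + 2) * (fc (i + 1) * fc (i + 1)) := by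
    intro i
    have h1 := hXY i (A ⊓ ucs W (i + 2)) inf_le_right
    have h2 := hXY i (B ⊓ ucs W (i + 2)) inf_le_right
    rw [inf_assoc, inf_eq_right.2 (ucs_mono W (Nat.le_succ (i + 1)))] at h1 h2
    simp only [hfa]
    calc _ = (Nat.card ↥(A ⊓ ucs W (i + 2) ⊔ ucs W (i + 1)) * Nat.card ↥(A ⊓ ucs W (i + 1))) *
          (Nat.card ↥(B ⊓ ucs W (i + 2) ⊔ ucs W (i + 1)) * Nat.card ↥(B ⊓ ucs W (i + 1))) := by ring
      _ = _ := by rw [h1, h2]; ring
  have hle : ∀ i, Nat.card ↥((A ⊓ ucs W (i + 2)) ⊔ ucs W (i + 1)) *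
      Nat.card ↥((B ⊓ ucs W (i + 2)) ⊔ ucs W (i + 1)) ≤ fc (i + 1) * fc (i + 2) := fun i =>
    (CfsgLib.LocEven.card_mul_card_le_card_inf_mul
      (sup_le inf_le_right (ucs_mono W (Nat.le_succ _)))
      (sup_le inf_le_right (ucs_mono W (Nat.le_succ _)))).trans
      (Nat.mul_le_mul_right _ (Subgroup.card_le_of_le (hinf i)))
  have hpos : ∀ i, 0 < fc i := fun i => Nat.card_pos
  have hapos : ∀ i, 0 < fa i := fun i => Nat.mul_pos Nat.card_pos Nat.card_pos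
  have hstep : ∀ i, fa (i + 2) * fc (i + 1) ≤ fa (i + 1) * fc (i + 2) := by
    intro i
    refine Nat.le_of_mul_le_mul_left ?_ (hpos (i + 1))
    calc fc (i + 1) * (fa (i + 2) * fc (i + 1)) = fa (i + 2) * (fc (i + 1) * fc (i + 1)) := by ring
      _ ≤ fc (i + 1) * fc (i + 2) * fa (i + 1) := by
          rw [← hprodXY i]; exact Nat.mul_le_mul_right _ (hle i)
      _ = _ := by ring
  have hbase : ∀ i, fa (i + 1) ≤ fc (i + 1) * d := by
    intro i
    induction i with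
    | zero =>
      refine (CfsgLib.LocEven.card_mul_card_le_card_inf_mul (inf_le_right : A ⊓ ucs W 1 ≤ _)
        inf_le_right).trans ?_
      rw [mul_comm]
      exact Nat.mul_le_mul_left _ (Subgroup.card_le_of_le (inf_le_inf inf_le_left inf_le_left))
    | succ i ih =>
      refine Nat.le_of_mul_le_mul_left ?_ (hpos (i + 1))
      calc fc (i + 1) * fa (i + 1 + 1) = fa (i + 2) * fc (i + 1) := by ring
        _ ≤ fc (i + 1) * d * fc (i + 2) := (hstep i).trans (Nat.mul_le_mul_right _ ih)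
        _ = _ := by ring
  -- no step can be strict
  obtain ⟨N, hN⟩ := exists_ucs_eq hWp
  have heq : fa (j + 1) * fc (j + 2) ≤ fa (j + 2) * fc (j + 1) := by
    by_contra hlt
    rw [not_le] at hlt
    have hs : ∀ k, fa (j + 2 + k) < fc (j + 2 + k) * d := by
      intro k
      induction k with
      | zero =>
        refine lt_of_mul_lt_mul_right' (a := fc (j + 1)) ?_
        calc fa (j + 2) * fc (j + 1) < fa (j + 1) * fc (j + 2) := hlt
          _ ≤ fc (j + 1) * d * fc (j + 2) := Nat.mul_le_mul_right _ (hbase j)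
          _ = _ := by ring
      | succ k ih =>
        refine lt_of_mul_lt_mul_right' (a := fc (j + 2 + k)) ?_
        calc fa (j + 2 + (k + 1)) * fc (j + 2 + k)
            ≤ fa (j + 2 + k) * fc (j + 2 + (k + 1)) := by
              have h' := hstep (j + 1 + k)
              rwa [show j + 1 + k + 2 = j + 2 + (k + 1) by omega,
                show j + 1 + k + 1 = j + 2 + k by omega] at h'
          _ < fc (j + 2 + k) * d * fc (j + 2 + (k + 1)) := Nat.mul_lt_mul_of_pos_right ih (hpos _)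
          _ = _ := by ring
    have h1 := hs N
    have hW' : ucs W (j + 2 + N) = W := hN _ (by omega)
    simp only [hfa, hfc, hW', inf_eq_left.2 hA, inf_eq_left.2 hB] at h1
    have h2 := card_mul_card_le_of_prod hA hB hprod
    rw [← hd] at h2
    rw [mul_comm (Nat.card W)] at h1
    omega
  intro z hz
  have hcard : fc (j + 1) * fc (j + 2) ≤ Nat.card ↥((A ⊓ ucs W (j + 2)) ⊔ ucs W (j + 1)) *
      Nat.card ↥((B ⊓ ucs W (j + 2)) ⊔ ucs W (j + 1)) := by
    refine Nat.le_of_mul_le_mul_right ?_ (hapos (j + 1))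
    calc fc (j + 1) * fc (j + 2) * fa (j + 1) = fc (j + 1) * (fa (j + 1) * fc (j + 2)) := by ring
      _ ≤ fc (j + 1) * (fa (j + 2) * fc (j + 1)) := Nat.mul_le_mul_left _ heq
      _ = _ := by rw [hprodXY j]; ring
  obtain ⟨x, hx, y, hy, rfl⟩ := CfsgLib.LocalEven.exists_mul_of_card_le
    (L := ucs W (j + 2)) (sup_le inf_le_right (ucs_mono W (Nat.le_succ _)))
    (sup_le inf_le_right (ucs_mono W (Nat.le_succ _)))
    ((Nat.mul_le_mul_right _ (Subgroup.card_le_of_le (hinf j))).trans hcard) hz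
  have e1 : x ∈ (((A ⊓ ucs W (j + 2)) ⊔ ucs W (j + 1) : Subgroup G) : Set G) := hx
  have e2 : y ∈ (((B ⊓ ucs W (j + 2)) ⊔ ucs W (j + 1) : Subgroup G) : Set G) := hy
  rw [Subgroup.coe_mul_of_left_le_normalizer_right _ _ (inf_le_right.trans (hn (j + 1)))] at e1 e2
  obtain ⟨a, ha, c, hc, rfl⟩ := e1
  obtain ⟨b, hb, c', hc', rfl⟩ := e2
  refine ⟨a, ha, b, hb, b⁻¹ * c * b * c', mul_mem ?_ hc', by group⟩
  exact (Subgroup.mem_normalizer_iff''.1 (hn (j + 1) hb.2) c).1 hc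

end CfsgLib.FocalThree
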