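import Cfsg.Agent.Lib.FocalThree.Central
import Cfsg.Agent.Lib.FocalThree.Layers
import Cfsg.Agent.Lib.FocalThree.A4
import Cfsg.Agent.Lib.Solvable.CoprimeAction
import Cfsg.Agent.Lib.Solvable.SchurZassenhaus
import Cfsg.Agent.Lib.Linear.Transvection

/-!
# There is no minimal failure for `p = 3`
-/

set_option autoImplicit false
set_option maxHeartbeats 400000
set_option linter.unusedSectionVars false
set_option linter.style.haveILetI false

open scoped commutatorElement MatrixGroups IsMulCommutative Pointwise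

namespace CfsgLib.FocalThree

open Matrix CfsgLib.ConjFunctor
open CfsgLib.FocalOdd (omegaOneCenter_spec uni uni_zero uni_injective conjRep conjRep_apply conjRep_eq_iff)

universe u

section SL2

variable {F : Type*} [Field F]

theorem weyl_val : ((weyl : SpecialLinearGroup (Fin 2) F) : Matrix (Fin 2) (Fin 2) F) = !![0, 1; -1, 0] :=
  rfl

theorem uni_val (s : F) : ((uni s : SpecialLinearGroup (Fin 2) F) : Matrix (Fin 2) (Fin 2) F) = !![1, s; 0, 1] :=
  rfl

/-- The lower unitriangular element. -/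
def low (s : F) : SpecialLinearGroup (Fin 2) F := ⟨!![1, 0; s, 1], by simp [Matrix.det_fin_two]⟩

theorem low_val (s : F) : ((low s : SpecialLinearGroup (Fin 2) F) : Matrix (Fin 2) (Fin 2) F) = !![1, 0; s, 1] :=
  rfl

theorem weyl_conj_uni (s : F) :
    (weyl * uni s * weyl⁻¹ : SpecialLinearGroup (Fin 2) F) = low (-s) := by
  rw [mul_inv_eq_iff_eq_mul]
  refine Subtype.ext (Matrix.ext fun i j => ?_)
  fin_cases i <;> fin_cases j <;> simp [weyl_val, uni_val, low_val, Matrix.mul_apply, Fin.sum_univ_two]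

theorem uni_mul_uni (s t : F) : (uni s * uni t : SpecialLinearGroup (Fin 2) F) = uni (s + t) := by
  refine Subtype.ext (Matrix.ext fun i j => ?_)
  fin_cases i <;> fin_cases j <;> simp [uni_val, Matrix.mul_apply, Fin.sum_univ_two, add_comm]

theorem uni_low_uni :
    (uni 1 * (weyl * uni 1 * weyl⁻¹) * uni 1 : SpecialLinearGroup (Fin 2) F) = weyl := by
  rw [weyl_conj_uni]
  refine Subtype.ext (Matrix.ext fun i j => ?_)
  fin_cases i <;> fin_cases j <;> simp [weyl_val, uni_val, low_val, Matrix.mul_apply, Fin.sum_univ_two]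

theorem weyl_sq : (weyl * weyl : SpecialLinearGroup (Fin 2) F) = -1 := by
  refine Subtype.ext (Matrix.ext fun i j => ?_)
  fin_cases i <;> fin_cases j <;> simp [weyl_val, Matrix.mul_apply, Fin.sum_univ_two]

theorem weyl_pow_nine (a : ℕ) : (weyl : SpecialLinearGroup (Fin 2) F) ^ (9 ^ a) = weyl := by
  induction a with
  | zero => rw [pow_zero, pow_one]
  | succ a ih =>
    have h9 : (weyl : SpecialLinearGroup (Fin 2) F) ^ 9 = weyl := by
      rw [show 9 = 2 * 2 * 2 + 1 from rfl, pow_succ, pow_mul, pow_mul, pow_two (weyl : SpecialLinearGroup (Fin 2) F), weyl_sq,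
        neg_one_sq, one_pow, one_mul]
    rw [pow_succ', pow_mul, h9, ih]

theorem uni_cube (h3 : (3 : F) = 0) : (uni 1 : SpecialLinearGroup (Fin 2) F) ^ 3 = 1 := by
  rw [pow_succ, pow_two, uni_mul_uni, uni_mul_uni, ← uni_zero]
  congr 1
  linear_combination h3

theorem a4_relation (h3 : (3 : F) = 0) :
    (weyl * (uni 1 * weyl * (uni 1)⁻¹) : SpecialLinearGroup (Fin 2) F) =
      -(uni 1 * (uni 1 * weyl * (uni 1)⁻¹) * (uni 1)⁻¹) := by
  rw [show (uni (1 : F))⁻¹ = uni (-1) from inv_eq_of_mul_eq_one_right (by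
    rw [uni_mul_uni, add_neg_cancel, uni_zero])]
  refine Subtype.ext (Matrix.ext fun i j => ?_)
  fin_cases i <;> fin_cases j <;> simp [weyl_val, uni_val, low_val, Matrix.mul_apply, Fin.sum_univ_two] <;>
    first
    | linear_combination h3
    | linear_combination -h3
    | linear_combination 2 * h3
    | linear_combination -2 * h3

/-- The upper triangular matrices. -/
def borel : Subgroup (SpecialLinearGroup (Fin 2) F) where
  carrier := {A | (A : Matrix (Fin 2) (Fin 2) F) 1 0 = 0}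
  one_mem' := by simp
  mul_mem' := fun {A B} hA hB => by
    simp only [Set.mem_setOf_eq] at hA hB ⊢
    simp [Matrix.mul_apply, Fin.sum_univ_two, hA, hB]
  inv_mem' := fun {A} hA => by
    simp only [Set.mem_setOf_eq] at hA ⊢
    simp [Matrix.adjugate_fin_two, hA]

/-- `{1, -1}`. -/
def signs : Subgroup (SpecialLinearGroup (Fin 2) F) where
  carrier := {A | A = 1 ∨ A = -1}
  one_mem' := Or.inl rfl
  mul_mem' := by
    rintro A B (rfl | rfl) (rfl | rfl) <;> simp
  inv_mem' := by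
    rintro A (rfl | rfl)
    · exact Or.inl inv_one
    · exact Or.inr (inv_eq_of_mul_eq_one_right (by simp))

instance signs_normal : (signs (F := F)).Normal :=
  ⟨fun A hA B => by
    rcases hA with rfl | rfl
    · exact Or.inl (by simp)
    · exact Or.inr (by simp)⟩

end SL2

/-- Elements `u` and `g u g⁻¹` have common fixed points covering an invariant intersection. -/
theorem split_fixed {G : Type*} [Group G] {V X : Subgroup G} [hVn : V.Normal] {u g : G}
    (hV : ∀ v ∈ V, ∃ a ∈ V, ∃ b ∈ V, u * a = a * u ∧ u * b = b * u ∧ v = a * (g * b * g⁻¹))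
    (hVc : ∀ v ∈ V, ∀ w ∈ V, v * w = w * v)
    (hX : ∀ d ∈ X, u * d = d * u) {x : G}
    (hx : x ∈ (X ⊔ V) ⊓ (X ⊔ V).map (MulAut.conj g).toMonoidHom) :
    ∃ c ∈ Subgroup.centralizer ({u, g * u * g⁻¹} : Set G), ∃ v ∈ V, x = c * v := by
  obtain ⟨d, hd, v1, hv1, rfl⟩ := Subgroup.mem_sup_of_normal_right.1 hx.1
  obtain ⟨y, hy, hye⟩ := hx.2
  obtain ⟨d', hd', w, hw, rfl⟩ := Subgroup.mem_sup_of_normal_right.1 hy
  have hw' : g * w * g⁻¹ ∈ V := hVn.conj_mem w hw g
  obtain ⟨a, ha, b, hb, hua, hub, hab⟩ := hV _ (mul_mem hv1 (inv_mem hw'))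
  refine ⟨d * a, Subgroup.mem_centralizer_iff.2 ?_, a⁻¹ * v1, mul_mem (inv_mem ha) hv1, by group⟩
  have hc : d * a = g * (d' * b⁻¹) * g⁻¹ := by
    have e1 : d * v1 = g * d' * g⁻¹ * (g * w * g⁻¹) :=
      hye.symm.trans (show g * (d' * w) * g⁻¹ = _ by group)
    have e3 : g * w * g⁻¹ * v1⁻¹ = g * b⁻¹ * g⁻¹ * a⁻¹ := by
      have e := congrArg (·⁻¹) hab
      simp only [_root_.mul_inv_rev, inv_inv] at e
      rw [e]; group
    calc d * a = d * v1 * v1⁻¹ * a := by group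
      _ = g * d' * g⁻¹ * (g * w * g⁻¹ * v1⁻¹) * a := by rw [e1]; group
      _ = g * (d' * b⁻¹) * g⁻¹ := by rw [e3]; group
  intro z hz
  rcases hz with rfl | hz
  · rw [← mul_assoc, hX d hd, mul_assoc, hua, mul_assoc]
  · rw [Set.mem_singleton_iff] at hz
    subst hz
    rw [hc]
    have e : u * (d' * b⁻¹) = d' * b⁻¹ * u :=
      (show Commute u d' from hX d' hd').mul_right ((show Commute u b from hub).inv_right)
    calc g * u * g⁻¹ * (g * (d' * b⁻¹) * g⁻¹) = g * (u * (d' * b⁻¹)) * g⁻¹ := by group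
      _ = g * (d' * b⁻¹ * u) * g⁻¹ := by rw [e]
      _ = g * (d' * b⁻¹) * g⁻¹ * (g * u * g⁻¹) := by group

/-- If `g` normalizes `U`, has order prime to `p`, moves `x` inside the `p`-group and fixes the
displacement, then it fixes `x`. -/
theorem commute_of_displacement {G : Type*} [Group G] {p : ℕ} [Fact p.Prime] {P : Subgroup G}
    (hP : IsPGroup p P) {g x : G} (hg : (orderOf g).Coprime p)
    (hd : g * x * g⁻¹ * x⁻¹ ∈ P) (hgd : g * (g * x * g⁻¹ * x⁻¹) = g * x * g⁻¹ * x⁻¹ * g) :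
    g * x = x * g := by
  set d := g * x * g⁻¹ * x⁻¹ with hdd
  have hm : ∀ m : ℕ, g ^ m * x * (g ^ m)⁻¹ = d ^ m * x := by
    intro m
    induction m with
    | zero => simp
    | succ m ihm =>
      calc g ^ (m + 1) * x * (g ^ (m + 1))⁻¹ = g * (g ^ m * x * (g ^ m)⁻¹) * g⁻¹ := by
            rw [pow_succ']; group
        _ = g * d ^ m * g⁻¹ * (g * x * g⁻¹ * x⁻¹) * x := by rw [ihm]; group
        _ = d ^ (m + 1) * x := by
            rw [← hdd, (show Commute g (d ^ m) from Commute.pow_right hgd m).eq, mul_inv_cancel_right,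
              pow_succ]
  have h2 := hm (orderOf g)
  rw [pow_orderOf_eq_one, one_mul, inv_one, mul_one] at h2
  have h3 : d ^ orderOf g = 1 := mul_eq_right.1 h2.symm
  obtain ⟨k, hk⟩ := hP ⟨d, hd⟩
  have hd1 : d = 1 := orderOf_eq_one_iff.1 (Nat.eq_one_of_dvd_coprimes (hg.pow_right k)
    (orderOf_dvd_of_pow_eq_one h3) (orderOf_dvd_of_pow_eq_one (congrArg Subtype.val hk)))
  rwa [hdd, mul_inv_eq_one, mul_inv_eq_iff_eq_mul] at hd1

set_option maxHeartbeats 1000000 in
/-- One layer: `h` moves the `K`-fixed points of an upper central layer into the layer below. -/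
theorem layer_moves {G : Type*} [Group G] [Finite G] {WW A B V K R L N : Subgroup G} {u v h : G}
    (hWp : IsPGroup 3 WW) (hA : A ≤ WW) (hB : B ≤ WW)
    (hAc : ∀ a ∈ A, ∀ a' ∈ A, a * a' = a' * a) (hBc : ∀ b ∈ B, ∀ b' ∈ B, b * b' = b' * b)
    (hprod : ∀ w ∈ WW, ∃ a ∈ A, ∃ b ∈ B, w = a * b)
    (hL : L ≤ Subgroup.normalizer (WW : Set G)) (hu : u ∈ L) (hv : v ∈ L) (hh : h ∈ L)
    (hV : V ≤ ucs WW 1) (huA : ∀ a ∈ A, u * a * u⁻¹ * a⁻¹ ∈ V)
    (hvB : ∀ b ∈ B, v * b * v⁻¹ * b⁻¹ ∈ V)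
    (hNW : N ≤ WW) (hcopK : (Nat.card K).Coprime 3) (hKR : K ≤ R) (hRL : R ≤ L)
    (hRn : ∀ x ∈ L, ∀ r ∈ R, x * r * x⁻¹ ∈ R)
    (hdec : ∀ r ∈ R, ∃ a ∈ N, ∃ k ∈ K, r = a * k)
    (hu3 : u ^ 3 ∈ R) (hh2 : h ^ 2 ∈ R)
    (hrel : (h * (u * h * u⁻¹))⁻¹ * (u * (u * h * u⁻¹) * u⁻¹) ∈ R)
    (hvh : v⁻¹ * (h * u * h⁻¹) ∈ R)
    (j : ℕ) {z : G} (hz : z ∈ ucs WW (j + 2)) (hzK : ∀ k ∈ K, k * z = z * k) :
    h * z * h⁻¹ * z⁻¹ ∈ ucs WW (j + 1) := by
  classical
  haveI : Fact (Nat.Prime 3) := ⟨Nat.prime_three⟩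
  set Zj := ucs WW (j + 1) with hZj
  set Zk := ucs WW (j + 2) with hZk
  set Nr := Subgroup.normalizer (WW : Set G) with hNr
  haveI : (Zj.subgroupOf Nr).Normal :=
    Subgroup.normal_subgroupOf_of_le_normalizer (normalizer_le_normalizer_ucs WW (j + 1))
  haveI : (Zk.subgroupOf Nr).Normal :=
    Subgroup.normal_subgroupOf_of_le_normalizer (normalizer_le_normalizer_ucs WW (j + 2))
  set mk := QuotientGroup.mk' (Zj.subgroupOf Nr) with hmk
  set Mb := (Zk.subgroupOf Nr).map mk with hMb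
  haveI : Mb.Normal := Subgroup.Normal.map inferInstance _ (QuotientGroup.mk'_surjective _)
  haveI : IsMulCommutative Mb := ⟨⟨by
    rintro ⟨_, a, ha, rfl⟩ ⟨_, b, hb, rfl⟩
    refine Subtype.ext ?_
    show mk a * mk b = mk b * mk a
    rw [← commutatorElement_eq_one_iff_mul_comm, ← map_commutatorElement]
    exact (QuotientGroup.eq_one_iff _).2 ((mem_ucs_succ.1 ha).2 _ (ucs_le WW _ hb))⟩⟩
  have hWN : WW ≤ Nr := Subgroup.le_normalizer
  have hZN : Zk ≤ Nr := (ucs_le WW _).trans hWN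
  set φ : L →* AddMonoid.End (Additive Mb) :=
    (conjRep Mb).comp (mk.comp (Subgroup.inclusion hL)) with hφ
  let cls : Zk → Additive Mb := fun a =>
    Additive.ofMul ⟨mk ⟨a, hZN a.2⟩, ⟨a, hZN a.2⟩, a.2, rfl⟩
  have hconj : ∀ (x : L) (a : Zk), φ x (cls a) = cls ⟨(x : G) * a * (x : G)⁻¹,
      (Subgroup.mem_normalizer_iff.1 (normalizer_le_normalizer_ucs WW (j + 2) (hL x.2)) a).1 a.2⟩ := by
    intro x a
    apply Additive.toMul.injective
    refine Subtype.ext ?_
    show ((Additive.toMul (conjRep Mb (mk (Subgroup.inclusion hL x)) (cls a)) : Mb) : Nr ⧸ Zj.subgroupOf Nr) = _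
    rw [conjRep_apply]
    show mk _ * mk _ * (mk _)⁻¹ = mk _
    rw [← map_inv, ← map_mul, ← map_mul]
    rfl
  have hclseq : ∀ {a b : Zk}, cls a = cls b ↔ (a : G)⁻¹ * b ∈ Zj := by
    intro a b
    rw [← Additive.toMul.injective.eq_iff, Subtype.ext_iff]
    exact QuotientGroup.eq
  have hfixcls : ∀ (x : L) {a : G} (ha : a ∈ Zk), (x : G) * a * (x : G)⁻¹ * a⁻¹ ∈ Zj →
      φ x (cls ⟨a, ha⟩) = cls ⟨a, ha⟩ := by
    intro x a ha hd
    rw [hconj, hclseq]
    have h2 := (Subgroup.mem_normalizer_iff''.1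
      (normalizer_le_normalizer_ucs WW (j + 1) (hWN (ucs_le WW _ ha))) _).1 (inv_mem hd)
    convert h2 using 1
    group
  have hsurj : ∀ w : Additive Mb, ∃ a : G, ∃ ha : a ∈ Zk, w = cls ⟨a, ha⟩ := by
    intro w
    obtain ⟨a, ha, he⟩ := w.toMul.2
    exact ⟨a, ha, Additive.toMul.injective (Subtype.ext he.symm)⟩
  -- `N` acts trivially
  have hNker : ∀ x : L, (x : G) ∈ N → φ x = 1 := by
    intro x hx
    refine AddMonoidHom.ext fun w => ?_
    obtain ⟨a, ha, rfl⟩ := hsurj w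
    refine hfixcls x ha ?_
    have h2 := (mem_ucs_succ.1 ha).2 _ (hNW hx)
    have h3 := inv_mem h2
    rw [commutatorElement_inv] at h3
    exact h3
  -- the group acting faithfully
  set q := QuotientGroup.mk' φ.ker with hq
  set φq : L ⧸ φ.ker →* AddMonoid.End (Additive Mb) :=
    QuotientGroup.lift φ.ker φ le_rfl with hφq
  have hlift : ∀ x : L, φq (q x) = φ x := fun x => rfl
  set Rb := (K.subgroupOf L).map q with hRb
  have hRmem : ∀ r : L, (r : G) ∈ R → q r ∈ Rb := by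
    intro r hr
    obtain ⟨a, ha, k, hk, hrk⟩ := hdec _ hr
    have haL : a ∈ L := by
      rw [show a = (r : G) * k⁻¹ by rw [hrk]; group]
      exact mul_mem r.2 (inv_mem (hRL (hKR hk)))
    refine ⟨⟨k, hRL (hKR hk)⟩, hk, QuotientGroup.eq.2 ?_⟩
    have e : φ r = φ ⟨k, hRL (hKR hk)⟩ := by
      rw [show r = ⟨a, haL⟩ * ⟨k, hRL (hKR hk)⟩ from Subtype.ext hrk, map_mul, hNker ⟨a, haL⟩ ha,
        one_mul]
    rw [MonoidHom.mem_ker, map_mul, e, ← map_mul, inv_mul_cancel, map_one]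
  have hnorm : ∀ x : L, q x ∈ Subgroup.normalizer (Rb : Set (L ⧸ φ.ker)) := by
    intro x
    refine CfsgLib.PLocal.mem_normalizer_of_map_conj_eq (Subgroup.eq_of_le_of_card_ge ?_
      (Subgroup.card_map_of_injective (MulAut.conj (q x)).injective).ge)
    rintro _ ⟨_, ⟨k, hk, rfl⟩, rfl⟩
    show q x * q k * (q x)⁻¹ ∈ Rb
    rw [← map_inv, ← map_mul, ← map_mul]
    exact hRmem _ (hRn _ x.2 _ (hKR hk))
  have hMp : IsPGroup 3 Mb :=
    ((hWp.to_le (ucs_le WW _)).comap_of_injective Nr.subtype Nr.subtype_injective).map mk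
  obtain ⟨e, he⟩ := IsPGroup.iff_card.1 hMp
  have hcardV : Nat.card (Additive Mb) = 3 ^ e := (Nat.card_congr Additive.toMul).trans he
  have hodd : Odd (Nat.card (Additive Mb)) := by
    rw [hcardV]; exact Odd.pow (by decide)
  have hcop : (Nat.card Rb).Coprime (Nat.card (Additive Mb)) := by
    rw [hcardV]
    refine Nat.Coprime.pow_right e (hcopK.coprime_dvd_left ?_)
    refine (Subgroup.card_map_dvd (K.subgroupOf L) q).trans ?_
    rw [Nat.card_congr (Subgroup.subgroupOfEquivOfLe (hKR.trans hRL)).toEquiv]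
  have hspan : ∀ w : Additive Mb, ∃ x y, w = x + y ∧ φq (q ⟨u, hu⟩) x = x ∧
      φq (q ⟨v, hv⟩) y = y := by
    intro w
    obtain ⟨a, ha, rfl⟩ := hsurj w
    obtain ⟨x, hx, y, hy, c, hc, hac⟩ := layer_split hWp hA hB hAc hBc hprod j a ha
    refine ⟨cls ⟨x, hx.2⟩, cls ⟨y, hy.2⟩, ?_, ?_, ?_⟩
    · refine ((hclseq (b := ⟨x * y, mul_mem hx.2 hy.2⟩)).2 ?_).trans (Additive.toMul.injective (Subtype.ext ?_))
      · show a⁻¹ * (x * y) ∈ Zj
        rw [hac, show (x * y * c)⁻¹ * (x * y) = c⁻¹ by group]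
        exact inv_mem hc
      · rfl
    · exact hfixcls ⟨u, hu⟩ hx.2 (ucs_mono WW (Nat.le_add_left 1 j) (hV (huA x hx.1)))
    · exact hfixcls ⟨v, hv⟩ hy.2 (ucs_mono WW (Nat.le_add_left 1 j) (hV (hvB y hy.1)))
  have hw : ∀ r ∈ Rb, φq r (cls ⟨z, hz⟩) = cls ⟨z, hz⟩ := by
    rintro _ ⟨k, hk, rfl⟩
    refine hfixcls k hz ?_
    rw [hzK (k : G) hk, mul_inv_cancel_right, mul_inv_cancel]
    exact one_mem _
  have key := a4_fixed φq Rb hodd hcop (u := q ⟨u, hu⟩) (v := q ⟨v, hv⟩) (h := q ⟨h, hh⟩)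
    (hnorm _) (hnorm _) (hnorm _) (by rw [← map_pow]; exact hRmem _ hu3)
    (by rw [← map_pow]; exact hRmem _ hh2)
    (by simp only [← map_inv, ← map_mul]; exact hRmem _ hrel)
    (by simp only [← map_inv, ← map_mul]; exact hRmem _ hvh) hspan hw
  rw [hlift, hconj, eq_comm, hclseq] at key
  have h2 := (Subgroup.mem_normalizer_iff.1
    (normalizer_le_normalizer_ucs WW (j + 1) (hWN (ucs_le WW _ hz))) _).1 key
  convert h2 using 1
  group

variable [Fact (Nat.Prime 3)] {G : Type u} [Group G] [Finite G] {S : Sylow 3 G} {M : Subgroup G}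

theorem exists_mem_uni {F : Type} [Field F] [Fintype F] {n : ℕ}
    {f : G →* SpecialLinearGroup (Fin 2) F} (h : Crit 3 G S M) (hD : SL2Data S F n f) (s : F) :
    ∃ x ∈ (S : Subgroup G), f x = uni s := by
  have e : Nat.card ↥((S : Subgroup G).map f) = 3 ^ n := by
    rw [← Subgroup.relIndex_ker, ← Subgroup.inf_relIndex_right, inf_comm, h.inf_ker hD, h.relIndex_S hD]
  have hsub : ((S : Subgroup G).map f : Set (SpecialLinearGroup (Fin 2) F)) ⊆
      Set.range (uni (F := F)) := by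
    rintro _ ⟨x, hx, rfl⟩
    obtain ⟨t, ht⟩ := hD.uni_of_mem x hx
    exact ⟨t, ht.symm⟩
  have heq := Set.eq_of_subset_of_ncard_le hsub (le_of_eq (by
    rw [Set.ncard_range_of_injective uni_injective, Nat.card_eq_fintype_card, hD.card, ← e]
    rfl)) (Set.toFinite _)
  obtain ⟨x, hx, hxe⟩ := heq.ge ⟨s, rfl⟩
  exact ⟨x, hx, hxe⟩

theorem weyl_not_mem_map {F : Type} [Field F] [Fintype F] {n : ℕ}
    {f : G →* SpecialLinearGroup (Fin 2) F} (h : Crit 3 G S M) (hD : SL2Data S F n f) :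
    weyl ∉ M.map f := by
  intro hw
  refine h.Mne ?_
  have htop : M.map f = ⊤ := by
    refine CfsgLib.Linear.SL_eq_top_of_transvection_mem _ fun i j hij c => ?_
    have huni : ∀ c : F, uni c ∈ M.map f := fun c => by
      obtain ⟨x, hx, hxe⟩ := exists_mem_uni h hD c
      exact ⟨x, h.S_le hx, hxe⟩
    fin_cases i <;> fin_cases j
    · exact absurd rfl hij
    · convert huni c using 1
      refine Subtype.ext (Matrix.ext fun a b => ?_)
      fin_cases a <;> fin_cases b <;> simp [uni_val, Matrix.transvection, Matrix.SpecialLinearGroup.transvection, Matrix.single_apply]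
    · convert mul_mem (mul_mem hw (huni (-c))) (inv_mem hw) using 1
      rw [weyl_conj_uni, neg_neg]
      refine Subtype.ext (Matrix.ext fun a b => ?_)
      fin_cases a <;> fin_cases b <;> simp [low_val, Matrix.transvection, Matrix.SpecialLinearGroup.transvection, Matrix.single_apply]
    · exact absurd rfl hij
  rw [← Subgroup.comap_map_eq_self (f := f) (H := M) (by rw [hD.ker]; exact h.cent_V_le), htop,
    Subgroup.comap_top]

namespace Crit

set_option maxHeartbeats 1600000 in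
/-- There is no minimal failure. -/
theorem absurd_three (h : Crit 3 G S M) : False := by
  classical
  obtain ⟨F, _, _, n, f, hD⟩ := h.exists_sl2
  obtain ⟨u, g, D, E, hP⟩ := h.exists_pair hD
  haveI hPn := CfsgLib.Solvable.pCore_normal 3 G
  haveI hVn := normal_V 3 G
  haveI hP₀n := h.normal_P₀ hD
  obtain ⟨hWn, hWV⟩ := h.normal_W hD
  haveI := hWn
  haveI : CharP F 3 := charP_of_card_eq_prime_pow hD.card
  have h3 : (3 : F) = 0 := by exact_mod_cast CharP.cast_eq_zero F 3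
  set P := Cfsg.pCore 3 G with hPdef
  set V := VP 3 G with hVdef
  set P₀ := BS S ⊓ P with hP₀def
  set W := ZJ S ⊔ V with hWdef
  have hPp : IsPGroup 3 P := CfsgLib.Solvable.pCore_isPGroup 3 G
  have hVP : V ≤ P := fun x hx => (omegaOneCenter_spec hx).1
  have hVP₀ : V ≤ P₀ := le_inf (h.VP_le_BS hD) hVP
  have hVc : ∀ x ∈ P, ∀ v ∈ V, x * v = v * x := fun x hx v hv => (omegaOneCenter_spec hv).2.1 x hx
  have hPker : P ≤ f.ker := (h.inf_ker hD).ge.trans inf_le_right
  have hBS : BS S ≤ (S : Subgroup G) := inf_le_left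
  -- the elements
  set v := g * u * g⁻¹ with hvdef
  set h0 := u * v * u with hh0
  have hfv : f v = weyl * uni 1 * weyl⁻¹ := by rw [hvdef, map_mul, map_mul, map_inv, hP.fu, hP.fg]
  have hfh0 : f h0 = weyl := by rw [hh0, map_mul, map_mul, hP.fu, hfv, uni_low_uni]
  set L := Subgroup.closure ({u, v} : Set G) with hL
  have huL : u ∈ L := Subgroup.subset_closure (Or.inl rfl)
  have hvL : v ∈ L := Subgroup.subset_closure (Or.inr rfl)
  have hh0L : h0 ∈ L := mul_mem (mul_mem huL hvL) huL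
  have hLC : ∀ {c : G}, c ∈ Subgroup.centralizer ({u, v} : Set G) → ∀ y ∈ L, y * c = c * y := by
    intro c hc y hy
    have h1 : L ≤ Subgroup.centralizer {c} := (Subgroup.closure_le _).2 fun z hz =>
      Subgroup.mem_centralizer_singleton_iff.2 (Subgroup.mem_centralizer_iff.1 hc z hz)
    exact Subgroup.mem_centralizer_singleton_iff.1 (h1 hy)
  -- the splitting of `F'` and `W`
  have hVsplit : ∀ x ∈ V, ∃ a ∈ V, ∃ b ∈ V, u * a = a * u ∧ u * b = b * u ∧ x = a * (g * b * g⁻¹) := by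
    intro x hx
    obtain ⟨a, ha, b, hb, hab⟩ := hD.split g hP.fg x hx
    exact ⟨a, ha.1, b, hb.1, Subgroup.mem_centralizer_iff.1 ha.2 u (hBS hP.u_mem),
      Subgroup.mem_centralizer_iff.1 hb.2 u (hBS hP.u_mem), hab⟩
  have hVcomm : ∀ x ∈ V, ∀ y ∈ V, x * y = y * x := fun x hx y hy => hVc x (hVP hx) y hy
  set F' := (D ⊔ V) ⊓ (D ⊔ V).map (MulAut.conj g).toMonoidHom with hF'
  have hDV : D ⊔ V ≤ P₀ := sup_le hP.D_le hVP₀
  have hVF' : V ≤ F' := le_inf le_sup_right fun x hx => ⟨g⁻¹ * x * g,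
    Subgroup.mem_sup_right (by simpa using hVn.conj_mem x hx g⁻¹), by
      show g * (g⁻¹ * x * g) * g⁻¹ = x; group⟩
  have hF'split : ∀ x ∈ F', ∃ c ∈ Subgroup.centralizer ({u, v} : Set G), ∃ w ∈ V, x = c * w :=
    fun x hx => split_fixed hVsplit hVcomm hP.commD hx
  have hWsplit : ∀ x ∈ W, ∃ c ∈ Subgroup.centralizer ({u, v} : Set G), ∃ w ∈ V, x = c * w := by
    intro x hx
    refine split_fixed hVsplit hVcomm (X := ZJ S) (fun d hd => ?_) ⟨hx, g⁻¹ * x * g, ?_, ?_⟩
    · exact (Subgroup.mem_centralizer_iff.1 hP.u_mem.2 d hd).symm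
    · simpa using hWn.conj_mem x hx g⁻¹
    · show g * (g⁻¹ * x * g) * g⁻¹ = x; group
  have hLN : ∀ {X : Subgroup G}, V ≤ X →
      (∀ x ∈ X, ∃ c ∈ Subgroup.centralizer ({u, v} : Set G), ∃ w ∈ V, x = c * w) →
      ∀ y ∈ L, ∀ x ∈ X, y * x * y⁻¹ ∈ X := by
    intro X hVX hX y hy x hx
    obtain ⟨c, hc, w, hw, rfl⟩ := hX x hx
    have hcX : c ∈ X := by simpa using mul_mem hx (inv_mem (hVX hw))
    rw [show y * (c * w) * y⁻¹ = y * c * y⁻¹ * (y * w * y⁻¹) by group, hLC hc y hy,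
      mul_inv_cancel_right]
    exact mul_mem hcX (hVX (hVn.conj_mem w hw y))
  set WW := P₀ ⊓ Subgroup.centralizer (F' : Set G) with hWW
  have hWWP : WW ≤ P := inf_le_left.trans inf_le_right
  have hWWp : IsPGroup 3 WW := hPp.to_le hWWP
  have hLWW : L ≤ Subgroup.normalizer (WW : Set G) := by
    intro y hy
    have key : ∀ y ∈ L, ∀ x ∈ WW, y * x * y⁻¹ ∈ WW := by
      intro y hy x hx
      refine ⟨hP₀n.conj_mem x hx.1 y, Subgroup.mem_centralizer_iff.2 fun t ht => ?_⟩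
      have h1 := hLN hVF' hF'split y⁻¹ (inv_mem hy) t ht
      have h2 := Subgroup.mem_centralizer_iff.1 hx.2 _ h1
      calc t * (y * x * y⁻¹) = y * (y⁻¹ * t * y⁻¹⁻¹ * x) * y⁻¹ := by group
        _ = y * (x * (y⁻¹ * t * y⁻¹⁻¹)) * y⁻¹ := by rw [h2]
        _ = y * x * y⁻¹ * t := by group
    refine Subgroup.mem_normalizer_iff.2 fun x => ⟨key y hy x, fun hx => ?_⟩
    simpa [mul_assoc] using key y⁻¹ (inv_mem hy) _ hx
  -- the two abelian factors of `WW`
  set A := E ⊔ V with hA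
  set A' := (E ⊔ V).map (MulAut.conj g).toMonoidHom with hA'
  have hEP₀ : E ≤ P₀ := hP.E_le.trans hP.D_le
  have hAc' : ∀ a ∈ A, ∀ x ∈ D ⊔ V, a * x = x * a := by
    intro a ha x hx
    obtain ⟨e, he, w, hw, rfl⟩ := Subgroup.mem_sup_of_normal_right.1 ha
    obtain ⟨d, hd, w', hw', rfl⟩ := Subgroup.mem_sup_of_normal_right.1 hx
    have c1 : Commute e d := hP.commE e he d hd
    have c2 : Commute e w' := hVc e (hEP₀ he).2 w' hw'
    have c3 : Commute w d := (hVc d (hP.D_le hd).2 w hw).symm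
    have c4 : Commute w w' := hVcomm w hw w' hw'
    exact ((c1.mul_right c2).mul_left (c3.mul_right c4)).eq
  have hAW : A ≤ WW := fun a ha => ⟨(sup_le hEP₀ hVP₀) ha, Subgroup.mem_centralizer_iff.2
    fun t ht => (hAc' a ha t ht.1).symm⟩
  have hA'W : A' ≤ WW := by
    rintro _ ⟨a, ha, rfl⟩
    refine ⟨hP₀n.conj_mem a ((sup_le hEP₀ hVP₀) ha) g, Subgroup.mem_centralizer_iff.2 fun t ht => ?_⟩
    obtain ⟨x, hx, rfl⟩ := ht.2
    rw [← map_mul, ← map_mul, hAc' a ha x hx]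
  have hAc : ∀ a ∈ A, ∀ a' ∈ A, a * a' = a' * a := fun a ha a' ha' =>
    hAc' a ha a' ((sup_le_sup_right hP.E_le V) ha')
  have hA'c : ∀ a ∈ A', ∀ a' ∈ A', a * a' = a' * a := by
    rintro _ ⟨a, ha, rfl⟩ _ ⟨a', ha', rfl⟩
    rw [← map_mul, ← map_mul, hAc a ha a' ha']
  have hprod : ∀ w ∈ WW, ∃ a ∈ A, ∃ b ∈ A', w = a * b := fun w hw =>
    hP.prod w hw.1 fun y hy => Subgroup.mem_centralizer_iff.1 hw.2 y hy
  have hVW1 : V ≤ ucs WW 1 := fun x hx => mem_ucs_one.2
    ⟨hAW (Subgroup.mem_sup_right hx), fun y hy => (hVc y (hWWP hy) x hx).symm⟩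
  have huA : ∀ a ∈ A, u * a * u⁻¹ * a⁻¹ ∈ V := by
    intro a ha
    obtain ⟨e, he, w, hw, rfl⟩ := Subgroup.mem_sup_of_normal_right.1 ha
    rw [show u * (e * w) * u⁻¹ * (e * w)⁻¹ = u * e * (w * u⁻¹ * w⁻¹) * e⁻¹ by group,
      hP.commD e (hP.E_le he), show e * u * (w * u⁻¹ * w⁻¹) * e⁻¹ = e * (u * w * u⁻¹ * w⁻¹) * e⁻¹ by
        group]
    exact hVn.conj_mem _ (mul_mem (hVn.conj_mem w hw u) (inv_mem hw)) e
  have hvA' : ∀ b ∈ A', v * b * v⁻¹ * b⁻¹ ∈ V := by
    rintro _ ⟨a, ha, rfl⟩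
    show v * (g * a * g⁻¹) * v⁻¹ * (g * a * g⁻¹)⁻¹ ∈ V
    rw [hvdef, show g * u * g⁻¹ * (g * a * g⁻¹) * (g * u * g⁻¹)⁻¹ * (g * a * g⁻¹)⁻¹ =
      g * (u * a * u⁻¹ * a⁻¹) * g⁻¹ by group]
    exact hVn.conj_mem _ (huA a ha) g
  -- `N = L ∩ P`
  set N := L ⊓ P with hN
  have hNW : N ≤ WW := by
    intro x hx
    have hc : ∀ {X : Subgroup G},
        (∀ y ∈ X, ∃ c ∈ Subgroup.centralizer ({u, v} : Set G), ∃ w ∈ V, y = c * w) →
        ∀ y ∈ X, y * x = x * y := by
      intro X hX y hy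
      obtain ⟨c, hc, w, hw, rfl⟩ := hX y hy
      exact ((show Commute x c from hLC hc x hx.1).mul_right (hVc x hx.2 w hw)).symm.eq
    have hxP₀ : x ∈ P₀ := (h.inf_BS hD).ge ⟨hx.2, Subgroup.mem_centralizer_iff.2 (hc hWsplit)⟩
    exact ⟨hxP₀, Subgroup.mem_centralizer_iff.2 (hc hF'split)⟩
  -- `f ⁻¹ {1, -1}`
  set N2 := (signs (F := F)).comap f with hN2
  have hPN2 : P ≤ N2 := fun x hx => Or.inl (hPker hx)
  have hN2M : N2 ≤ M := by
    refine le_trans (fun x hx => ?_) (h.Muniq ((borel (F := F)).comap f) (fun x hx => ?_) fun he => ?_)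
    · show (f x : Matrix (Fin 2) (Fin 2) F) 1 0 = 0
      rcases (hx : f x = 1 ∨ f x = -1) with e | e <;> simp [e]
    · obtain ⟨s, hs⟩ := hD.uni_of_mem x hx
      show (f x : Matrix (Fin 2) (Fin 2) F) 1 0 = 0
      rw [hs]; simp [uni_val]
    · have h1 : (f g : Matrix (Fin 2) (Fin 2) F) 1 0 = 0 := he.ge (Subgroup.mem_top g)
      rw [hP.fg] at h1
      simp [weyl_val] at h1
  haveI hN2n : N2.Normal := signs_normal.comap f
  have hSN2 : (S : Subgroup G) ⊓ N2 = P := by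
    refine le_antisymm (fun x hx => ?_) (le_inf (P_le S) hPN2)
    obtain ⟨s, hs⟩ := hD.uni_of_mem x hx.1
    rcases (hx.2 : f x = 1 ∨ f x = -1) with e | e
    · exact (h.inf_ker hD).le ⟨hx.1, e⟩
    · rw [hs] at e
      have e0 := congrArg (fun A : SpecialLinearGroup (Fin 2) F => (A : Matrix (Fin 2) (Fin 2) F) 0 0) e
      simp [uni_val] at e0
      refine absurd ?_ (one_ne_zero (α := F))
      linear_combination h3 - e0
  set R := L ⊓ N2 with hR
  have hNR : N ≤ R := inf_le_inf_left _ hPN2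
  have hLN2 : ∀ x ∈ L, ∀ r ∈ R, x * r * x⁻¹ ∈ R := fun x hx r hr =>
    ⟨L.mul_mem (L.mul_mem hx hr.1) (L.inv_mem hx), hN2n.conj_mem r hr.2 x⟩
  have hLnN : ∀ x ∈ L, ∀ a ∈ N, x * a * x⁻¹ ∈ N := fun x hx a ha =>
    ⟨L.mul_mem (L.mul_mem hx ha.1) (L.inv_mem hx), hPn.conj_mem a ha.2 x⟩
  have hcopR : Nat.Coprime 3 (N.relIndex R) := by
    refine Nat.prime_three.coprime_iff_not_dvd.2 fun hd => ?_
    have h1 := (isSyl_inf_normal S N2).not_dvd
    rw [hSN2] at h1
    refine h1 (hd.trans ?_)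
    have e : N.relIndex R = P.relIndex R := by
      rw [show N = P ⊓ R by
        rw [hN, hR, inf_comm L N2, ← inf_assoc, inf_eq_left.2 hPN2, inf_comm],
        Subgroup.inf_relIndex_right]
    rw [e, ← QuotientGroup.ker_mk' P, Subgroup.relIndex_ker, Subgroup.relIndex_ker]
    exact Subgroup.card_dvd_of_le (Subgroup.map_mono inf_le_right)
  have hNp : IsPGroup 3 N := hPp.to_le inf_le_right
  haveI : (N.subgroupOf R).Normal :=
    ⟨fun a ha x => Subgroup.mem_subgroupOf.2 (hLnN x x.2.1 a (Subgroup.mem_subgroupOf.1 ha))⟩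
  obtain ⟨eN, heN⟩ := IsPGroup.iff_card.1 hNp
  have hcardN : Nat.card ↥(N.subgroupOf R) = 3 ^ eN :=
    (Nat.card_congr (Subgroup.subgroupOfEquivOfLe hNR).toEquiv).trans heN
  obtain ⟨K', hK'⟩ := Subgroup.exists_right_complement'_of_coprime (N := N.subgroupOf R) (by
    rw [hcardN]; exact hcopR.pow_left eN)
  set K := K'.map R.subtype with hK
  have hKR : K ≤ R := Subgroup.map_subtype_le _
  have hKL : K ≤ L := hKR.trans inf_le_left
  have hcardK : Nat.card K = N.relIndex R := by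
    rw [hK, Subgroup.card_map_of_injective R.subtype_injective]
    exact hK'.symm.index_eq_card.symm
  have hcopK : (Nat.card K).Coprime 3 := hcardK ▸ hcopR.symm
  have hdec : ∀ r ∈ R, ∃ a ∈ N, ∃ k ∈ K, r = a * k := by
    intro r hr
    obtain ⟨a, ha, k, hk, hak⟩ := Subgroup.mem_sup_of_normal_left.1
      (hK'.sup_eq_top.ge (Subgroup.mem_top (⟨r, hr⟩ : R)))
    exact ⟨a, ha, k, ⟨k, hk, rfl⟩, congrArg Subtype.val hak.symm⟩
  -- an element normalizing the complement
  obtain ⟨a0, ha0, hconj⟩ : ∃ a ∈ N, MulAut.conj a • (MulAut.conj h0 • K) = K := by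
    have hsub : ∀ {x : G}, x ∈ MulAut.conj h0 • K → x ∈ R := by
      rintro _ ⟨k, hk, rfl⟩
      exact hLN2 h0 hh0L k (hKR hk)
    refine CfsgLib.Solvable.exists_conj_eq_of_coprime (N := N) ?_ ?_ ?_ ?_ (Or.inl ?_)
    · intro x hx
      refine Subgroup.mem_normalizer_iff.2 fun a => ⟨hLnN x (hsub hx).1 a, fun ha => ?_⟩
      simpa [mul_assoc] using hLnN x⁻¹ (inv_mem (hsub hx).1) _ ha
    · intro k hk
      obtain ⟨a, ha, k', hk', hak⟩ := hdec (h0⁻¹ * k * h0) (by
        simpa using hLN2 h0⁻¹ (inv_mem hh0L) k (hKR hk))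
      rw [show k = h0 * a * h0⁻¹ * (h0 * k' * h0⁻¹) by
        rw [show h0 * a * h0⁻¹ * (h0 * k' * h0⁻¹) = h0 * (a * k') * h0⁻¹ by group, ← hak]; group]
      exact Subgroup.mul_mem_sup (hLnN h0 hh0L a ha) ⟨k', hk', rfl⟩
    · exact (Subgroup.card_map_of_injective (MulAut.conj h0).injective).symm
    · rw [show Nat.card ↥(MulAut.conj h0 • K) = Nat.card K from
        Subgroup.card_map_of_injective (MulAut.conj h0).injective, heN]
      exact hcopK.symm.pow_left eN
    · haveI := hNp.isNilpotent; infer_instance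
  set h1 := a0 * h0 with hh1
  rw [smul_smul, ← map_mul] at hconj
  have hfh1 : f h1 = weyl := by rw [hh1, map_mul, hfh0, show f a0 = 1 from hPker ha0.2, one_mul]
  have hh1L : h1 ∈ L := mul_mem ha0.1 hh0L
  have hKconj : ∀ k ∈ K, h1 * k * h1⁻¹ ∈ K := fun k hk => hconj.le ⟨k, hk, rfl⟩
  obtain ⟨a, m, hm, ha⟩ := Nat.exists_eq_pow_mul_and_not_dvd (orderOf_pos h1).ne' 3 (by norm_num)
  set h' := h1 ^ 3 ^ a with hh'
  have hh'L : h' ∈ L := pow_mem hh1L _
  have hord : (orderOf h').Coprime 3 := by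
    rw [hh', orderOf_pow_of_dvd (pow_ne_zero _ (by norm_num)) (ha ▸ Dvd.intro m rfl), ha,
      Nat.mul_div_cancel_left m (pow_pos (by norm_num) a)]
    exact (Nat.prime_three.coprime_iff_not_dvd.2 hm).symm
  have hnotM : h' ∉ M := fun hM => weyl_not_mem_map h hD
    ⟨h' ^ 3 ^ a, pow_mem hM _, by
      rw [map_pow, hh', map_pow, hfh1, ← pow_mul, ← pow_add, show a + a = 2 * a by ring, pow_mul]
      exact weyl_pow_nine a⟩
  have hK1conj : h1 ∈ Subgroup.normalizer (K : Set G) :=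
    CfsgLib.PLocal.mem_normalizer_of_map_conj_eq hconj
  have hh'K : h' ∈ Subgroup.normalizer (K : Set G) := pow_mem hK1conj _
  -- a central element with image `-1`
  obtain ⟨aτ, haτ, τ, hτK, hτ⟩ := hdec (h0 * h0) ⟨mul_mem hh0L hh0L, Or.inr (by
    rw [map_mul, hfh0, weyl_sq])⟩
  have hfτ : f τ = -1 := by
    have e := congrArg f hτ
    rw [map_mul f h0 h0, map_mul f aτ τ, hfh0, weyl_sq, show f aτ = 1 from hPker haτ.2, one_mul] at e
    exact e.symm
  have hCconj : ∀ x ∈ Subgroup.centralizer (K : Set G), h' * x * h'⁻¹ ∈ Subgroup.centralizer (K : Set G) := by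
    intro x hx
    refine Subgroup.mem_centralizer_iff.2 fun k hk => ?_
    have h2 := Subgroup.mem_centralizer_iff.1 hx _ ((Subgroup.mem_normalizer_iff''.1 hh'K k).1 hk)
    calc k * (h' * x * h'⁻¹) = h' * (h'⁻¹ * k * h' * x) * h'⁻¹ := by group
      _ = h' * (x * (h'⁻¹ * k * h')) * h'⁻¹ := by rw [h2]
      _ = h' * x * h'⁻¹ * k := by group
  -- the layers of `WW`
  have hlayer : ∀ j : ℕ, ∀ x ∈ ucs WW j, x ∈ Subgroup.centralizer (K : Set G) → h' * x = x * h' := by
    intro j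
    induction j with
    | zero =>
      intro x hx _
      rw [ucs_zero, Subgroup.mem_bot] at hx
      rw [hx, mul_one, one_mul]
    | succ j ih =>
      intro x hx hxK
      rcases j with - | j
      · obtain ⟨hxW, hxc⟩ := mem_ucs_one.1 hx
        have h1' : x ∈ D ⊔ V := hP.double x hxW.1 fun e he =>
          (hxc e (hAW (Subgroup.mem_sup_left he))).symm
        have h2' : x ∈ (D ⊔ V).map (MulAut.conj g).toMonoidHom := by
          refine ⟨g⁻¹ * x * g, hP.double _ (by have := hP₀n.conj_mem x hxW.1 g⁻¹; rwa [inv_inv] at this) fun e he => ?_,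
            by show g * (g⁻¹ * x * g) * g⁻¹ = x; group⟩
          have e2 : x * (g * e * g⁻¹) = g * e * g⁻¹ * x :=
            hxc _ (hA'W ⟨e, Subgroup.mem_sup_left he, rfl⟩)
          calc e * (g⁻¹ * x * g) = g⁻¹ * (g * e * g⁻¹ * x) * g := by group
            _ = g⁻¹ * (x * (g * e * g⁻¹)) * g := by rw [e2]
            _ = g⁻¹ * x * g * e := by group
        obtain ⟨c, hc, w, hw, rfl⟩ := hF'split x ⟨h1', h2'⟩
        have hτw : τ * w = w * τ := by
          have e1 : Commute τ (c * w) := Subgroup.mem_centralizer_iff.1 hxK τ hτK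
          have e2 : Commute τ c := hLC hc τ (hKL hτK)
          have e3 := (e2.inv_right).mul_right e1
          rwa [inv_mul_cancel_left] at e3
        exact ((show Commute h' c from hLC hc h' hh'L).mul_right (hD.fixed τ hfτ w hw hτw h' hord)).eq
      · -- a higher layer
        have hrel : ∀ {y : G}, y ∈ L → (f y = 1 ∨ f y = -1) → y ∈ R := fun hy hf => ⟨hy, hf⟩
        have hmove : ∀ {z : G}, z ∈ ucs WW (j + 2) → z ∈ Subgroup.centralizer (K : Set G) →
            h0 * z * h0⁻¹ * z⁻¹ ∈ ucs WW (j + 1) := fun hz hzK =>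
          layer_moves hWWp hAW hA'W hAc hA'c hprod hLWW huL hvL hh0L hVW1 huA hvA' hNW hcopK hKR
            inf_le_left hLN2 hdec
            (hrel (pow_mem huL 3) (Or.inl (by rw [map_pow, hP.fu, uni_cube h3])))
            (hrel (pow_mem hh0L 2) (Or.inr (by rw [map_pow, hfh0, pow_two, weyl_sq])))
            (hrel (mul_mem (inv_mem (mul_mem hh0L (mul_mem (mul_mem huL hh0L) (inv_mem huL))))
              (mul_mem (mul_mem huL (mul_mem (mul_mem huL hh0L) (inv_mem huL))) (inv_mem huL)))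
              (Or.inr (by
                simp only [map_mul, map_inv, hP.fu, hfh0]
                rw [a4_relation h3, inv_mul_eq_iff_eq_mul, neg_mul_neg, mul_one])))
            (hrel (mul_mem (inv_mem hvL) (mul_mem (mul_mem hh0L huL) (inv_mem hh0L))) (Or.inl (by
              simp only [map_mul, map_inv, hfv, hP.fu, hfh0, inv_mul_cancel])))
            j hz fun k hk => Subgroup.mem_centralizer_iff.1 hzK k hk
        set Zj := ucs WW (j + 1)
        set Zk := ucs WW (j + 2)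
        have hstep : ∀ {z : G}, z ∈ Zk → z ∈ Subgroup.centralizer (K : Set G) →
            h1 * z * h1⁻¹ * z⁻¹ ∈ Zj := by
          intro z hz hzK
          have hd0 := hmove hz hzK
          have hz' : h0 * z * h0⁻¹ ∈ Zk :=
            ucs_conj (hLWW hh0L) (j + 2) hz
          have hd1 : ⁅h0 * z * h0⁻¹, a0⁆ ∈ Zj := (mem_ucs_succ.1 hz').2 a0 (hNW ha0)
          rw [show h1 * z * h1⁻¹ * z⁻¹ = ⁅h0 * z * h0⁻¹, a0⁆⁻¹ * (h0 * z * h0⁻¹ * z⁻¹) by
            rw [hh1]; simp only [commutatorElement_def]; group]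
          exact mul_mem (inv_mem hd1) hd0
        have hpow : ∀ i : ℕ, h1 ^ i * x * (h1 ^ i)⁻¹ * x⁻¹ ∈ Zj := by
          intro i
          induction i with
          | zero => simp [one_mem]
          | succ i ihi =>
            have hy : h1 ^ i * x * (h1 ^ i)⁻¹ ∈ Zk := ucs_conj (pow_mem (hLWW hh1L) i) (j + 2) hx
            have hyK : h1 ^ i * x * (h1 ^ i)⁻¹ ∈ Subgroup.centralizer (K : Set G) := by
              refine Subgroup.mem_centralizer_iff.2 fun k hk => ?_
              have h2 := Subgroup.mem_centralizer_iff.1 hxK _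
                ((Subgroup.mem_normalizer_iff''.1 (pow_mem hK1conj i) k).1 hk)
              calc k * (h1 ^ i * x * (h1 ^ i)⁻¹) = h1 ^ i * ((h1 ^ i)⁻¹ * k * h1 ^ i * x) * (h1 ^ i)⁻¹ := by
                    group
                _ = h1 ^ i * (x * ((h1 ^ i)⁻¹ * k * h1 ^ i)) * (h1 ^ i)⁻¹ := by rw [h2]
                _ = h1 ^ i * x * (h1 ^ i)⁻¹ * k := by group
            have e := mul_mem (hstep hy hyK) ihi
            convert e using 1
            rw [pow_succ']; group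
        have hd : h' * x * h'⁻¹ * x⁻¹ ∈ Zj := hpow _
        exact commute_of_displacement hWWp hord (ucs_le WW _ hd)
          (ih _ hd (mul_mem (hCconj x hxK) (inv_mem hxK)))
  -- Thompson's lemma, twice
  have hQ : (Nat.card ↥(Subgroup.zpowers h')).Coprime 3 := by rw [Nat.card_zpowers]; exact hord
  have hQle : ∀ {X : Subgroup G}, (∀ x ∈ X, h' * x = x * h') →
      X ≤ Subgroup.centralizer (Subgroup.zpowers h' : Set G) := by
    intro X hX x hx
    refine Subgroup.le_centralizer_iff.1 (Subgroup.zpowers_le.2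
      (Subgroup.mem_centralizer_iff.2 fun y (hy : y ∈ Subgroup.zpowers x) => ?_) :
      Subgroup.zpowers h' ≤ Subgroup.centralizer (Subgroup.zpowers x : Set G)) (Subgroup.mem_zpowers x)
    obtain ⟨i, rfl⟩ := hy
    exact ((show Commute h' x from hX x hx).zpow_right i).symm.eq
  set CK := Subgroup.centralizer (K : Set G) with hCK
  have hKcent : Subgroup.centralizer ({u, v} : Set G) ≤ CK := fun c hc =>
    Subgroup.mem_centralizer_iff.2 fun k hk => hLC hc k (hKL hk)
  have hnormQ : ∀ X : Subgroup G, X.Normal →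
      Subgroup.zpowers h' ≤ Subgroup.normalizer ((X ⊓ CK : Subgroup G) : Set G) := fun X hX =>
    Subgroup.zpowers_le.2 (CfsgLib.PLocal.mem_normalizer_of_map_conj_eq (Subgroup.eq_of_le_of_card_ge
      (by rintro _ ⟨x, hx, rfl⟩; exact ⟨hX.conj_mem x hx.1 h', hCconj x hx.2⟩)
      (Subgroup.card_map_of_injective (MulAut.conj h').injective).ge))
  have hnormC : ∀ (X Y : Subgroup G), X.Normal → Y ≤ Subgroup.centralizer ({u, v} : Set G) →
      Y ≤ Subgroup.normalizer ((X ⊓ CK : Subgroup G) : Set G) := fun X Y hX hY y hy => by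
    refine CfsgLib.PLocal.mem_normalizer_of_map_conj_eq (Subgroup.eq_of_le_of_card_ge ?_
      (Subgroup.card_map_of_injective (MulAut.conj y).injective).ge)
    rintro _ ⟨x, hx, rfl⟩
    exact ⟨hX.conj_mem x hx.1 y, CK.mul_mem (CK.mul_mem (hKcent (hY hy)) hx.2) (CK.inv_mem (hKcent (hY hy)))⟩
  have hstep1 : Subgroup.zpowers h' ≤ Subgroup.centralizer ((P₀ ⊓ CK : Subgroup G) : Set G) := by
    refine CfsgLib.Solvable.thompson_pxq
      (P := F' ⊓ Subgroup.centralizer ({u, v} : Set G))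
      (hPp.to_le (inf_le_left.trans ((inf_le_left.trans hDV).trans inf_le_right))) hQ
      (hPp.to_le (inf_le_left.trans inf_le_right)) (hQle fun x hx => hLC hx.2 h' hh'L)
      (hnormC P₀ _ hP₀n inf_le_right) (hnormQ P₀ hP₀n) ?_
    refine hQle fun x hx => ?_
    obtain ⟨N', hN'⟩ := exists_ucs_eq hWWp
    refine hlayer N' x ((hN' N' le_rfl).ge ⟨hx.1.1, Subgroup.mem_centralizer_iff.2 fun y hy => ?_⟩) hx.1.2
    obtain ⟨c, hc, w, hw, rfl⟩ := hF'split y hy
    have hcF : c ∈ F' := by simpa using mul_mem hy (inv_mem (hVF' hw))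
    exact ((show Commute x c from (Subgroup.mem_centralizer_iff.1 hx.2 c ⟨hcF, hc⟩).symm).mul_right
      (hVc x hx.1.1.2 w hw)).symm.eq
  have hWP : W ≤ P := sup_le (h.ZJ_le_P hD) hVP
  have hstep2 : Subgroup.zpowers h' ≤ Subgroup.centralizer ((P ⊓ CK : Subgroup G) : Set G) := by
    refine CfsgLib.Solvable.thompson_pxq
      (P := W ⊓ Subgroup.centralizer ({u, v} : Set G))
      (hPp.to_le (inf_le_left.trans hWP)) hQ
      (hPp.to_le inf_le_left) (hQle fun x hx => hLC hx.2 h' hh'L)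
      (hnormC P _ hPn inf_le_right) (hnormQ P hPn) ?_
    refine hQle fun x hx => ?_
    have hxP₀ : x ∈ P₀ := (h.inf_BS hD).ge ⟨hx.1.1, Subgroup.mem_centralizer_iff.2 fun y hy => by
      obtain ⟨c, hc, w, hw, rfl⟩ := hWsplit y hy
      have hcW : c ∈ W := by
        simpa using mul_mem hy (inv_mem (Subgroup.mem_sup_right hw))
      exact ((show Commute x c from (Subgroup.mem_centralizer_iff.1 hx.2 c ⟨hcW, hc⟩).symm).mul_right
        (hVc x hx.1.1 w hw)).symm.eq⟩
    exact (Subgroup.mem_centralizer_iff.1 (hstep1 (Subgroup.mem_zpowers h')) x ⟨hxP₀, hx.1.2⟩).symm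
  -- `h'` normalizes `T ∩ P`
  refine hnotM ?_
  have hKM : K ≤ M := hKR.trans (inf_le_right.trans hN2M)
  set T' := tgt (fam.{u} 3) (S : Subgroup G) ⊓ P with hT'
  have hcomm : ⁅P, K⁆ ≤ T' := (Subgroup.commutator_mono le_rfl hKM).trans h.comm
  have hKP : K ≤ Subgroup.normalizer (P : Set G) := Subgroup.le_normalizer_of_normal
  obtain ⟨eP, heP⟩ := IsPGroup.iff_card.1 hPp
  have hsplitP := CfsgLib.Solvable.commutator_sup_centralizer hKP
    (by rw [heP]; exact hcopK.pow_right eP) (Or.inr (by haveI := hPp.isNilpotent; infer_instance))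
  rw [h.Mdef]
  refine CfsgLib.PLocal.mem_normalizer_of_map_conj_eq (Subgroup.eq_of_le_of_card_ge ?_
    (Subgroup.card_map_of_injective (MulAut.conj h').injective).ge)
  rintro _ ⟨x, hx, rfl⟩
  show h' * x * h'⁻¹ ∈ T'
  have hxm : x ∈ ((⁅P, K⁆ ⊔ (P ⊓ Subgroup.centralizer (K : Set G)) : Subgroup G) : Set G) :=
    hsplitP.ge hx.2
  rw [Subgroup.coe_mul_of_right_le_normalizer_left _ _
    (inf_le_left.trans (CfsgLib.Solvable.le_normalizer_commutator_left P K))] at hxm
  obtain ⟨c, hc, d, hd, rfl⟩ := hxm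
  have hdT : d ∈ T' := by
    have := mul_mem (inv_mem (hcomm hc)) hx
    simpa using this
  have hcc : h' * c * h'⁻¹ ∈ ⁅P, K⁆ := by
    have e := Subgroup.mem_map_of_mem (MulAut.conj h').toMonoidHom hc
    rwa [Subgroup.map_commutator, CfsgLib.PLocal.map_conj_eq_of_mem_normalizer
      (by rw [Subgroup.normalizer_eq_top]; trivial),
      CfsgLib.PLocal.map_conj_eq_of_mem_normalizer hh'K] at e
  have hdd : h' * d * h'⁻¹ = d := by
    rw [mul_inv_eq_iff_eq_mul]
    exact (Subgroup.mem_centralizer_iff.1 (hstep2 (Subgroup.mem_zpowers h')) d hd).symm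
  rw [show h' * (c * d) * h'⁻¹ = h' * c * h'⁻¹ * (h' * d * h'⁻¹) by group, hdd]
  exact mul_mem (hcomm hcc) hdT

end Crit

end CfsgLib.FocalThree
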