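import Cfsg.Agent.Lib.FocalOdd.Functor
import Cfsg.Agent.Lib.LocalEven.CDBasic
import Cfsg.Agent.Lib.ConjFunctor.TransferReduce

/-!
# The centre, and the minimal centrally large subgroups of the Baumann subgroup
-/

set_option autoImplicit false
set_option maxHeartbeats 400000
set_option linter.unusedSectionVars false
set_option linter.style.haveILetI false

namespace CfsgLib.FocalThree

open CfsgLib.FocalOdd (baumFun isCharPFunctor_baumFun exists_center_order)

universe u

variable {p : ℕ}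

/-- `Z(Q)`. -/
def cFun : ∀ (Q : Type u) [Group Q], Subgroup Q := fun Q _ => Subgroup.center Q

/-- The join of the minimal centrally large subgroups. -/
def mclFun : ∀ (Q : Type u) [Group Q], Subgroup Q := fun Q _ => Cfsg.minimalCentrallyLargeJoin Q

variable (p)

/-- The functor of the second normalizer. -/
def kFun : ∀ (Q : Type u) [Group Q], Subgroup Q := baumFun p mclFun.{u}

/-- The family. -/
def fam : Set (∀ (Q : Type u) [Group Q], Subgroup Q) := {cFun.{u}, kFun.{u} p}

theorem cFun_mem : cFun.{u} ∈ fam.{u} p := Set.mem_insert _ _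

theorem kFun_mem : kFun.{u} p ∈ fam.{u} p := Set.mem_insert_of_mem _ rfl

theorem fam_nonempty : (fam.{u} p).Nonempty := ⟨_, cFun_mem p⟩

variable {p} [Fact p.Prime]

theorem isCharPFunctor_cFun : Cfsg.IsCharPFunctor.{u} p cFun.{u} := by
  refine ⟨fun Q _ _ hQ hn => ?_, fun Q R _ _ _ _ φ => ?_⟩
  · obtain ⟨z, hz1, -, hzc⟩ := exists_center_order hQ hn
    exact fun h => hz1 (Subgroup.mem_bot.1 (h.le (Subgroup.mem_center_iff.2 hzc)))
  · show (Subgroup.center Q).map φ.toMonoidHom = Subgroup.center R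
    ext y
    obtain ⟨x, rfl⟩ := φ.surjective y
    rw [show φ x = φ.toMonoidHom x from rfl, Subgroup.mem_map_iff_mem φ.injective,
      Subgroup.mem_center_iff, Subgroup.mem_center_iff]
    constructor
    · intro h y
      obtain ⟨t, rfl⟩ := φ.surjective y
      rw [MulEquiv.coe_toMonoidHom, ← map_mul, ← map_mul, h t]
    · intro h t
      have e := h (φ t)
      rw [MulEquiv.coe_toMonoidHom, ← map_mul, ← map_mul] at e
      exact φ.injective e

theorem card_product_map {A B : Type*} [Group A] [Group B] (φ : A ≃* B) (R : Subgroup A) :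
    Nat.card ↥(R.map φ.toMonoidHom) * Nat.card ↥(Subgroup.center ↥(R.map φ.toMonoidHom)) =
      Nat.card ↥R * Nat.card ↥(Subgroup.center ↥R) := by
  have e : ↥R ≃* ↥(R.map φ.toMonoidHom) := R.equivMapOfInjective _ φ.injective
  rw [← Nat.card_congr e.toEquiv, ← Nat.card_congr (Subgroup.centerCongr e).toEquiv]

theorem maxCentralProduct_congr {A B : Type*} [Group A] [Group B] (φ : A ≃* B) :
    Cfsg.maxCentralProduct A = Cfsg.maxCentralProduct B := by
  unfold Cfsg.maxCentralProduct
  congr 1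
  ext k
  constructor
  · rintro ⟨R, rfl⟩
    exact ⟨R.map φ.toMonoidHom, card_product_map φ R⟩
  · rintro ⟨R, rfl⟩
    exact ⟨R.map φ.symm.toMonoidHom, card_product_map φ.symm R⟩

theorem cl_map {A B : Type*} [Group A] [Group B] (φ : A ≃* B) {R : Subgroup A}
    (hR : Cfsg.IsCentrallyLarge R) : Cfsg.IsCentrallyLarge (R.map φ.toMonoidHom) :=
  (card_product_map φ R).trans (hR.trans (maxCentralProduct_congr φ))

theorem mcl_map {A B : Type*} [Group A] [Group B] (φ : A ≃* B) {R : Subgroup A}
    (hR : Cfsg.IsMinimalCentrallyLarge R) : Cfsg.IsMinimalCentrallyLarge (R.map φ.toMonoidHom) := by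
  refine ⟨cl_map φ hR.1, fun X hXR hX => ?_⟩
  have hback : (R.map φ.toMonoidHom).map φ.symm.toMonoidHom = R := by
    rw [Subgroup.map_map]
    ext x
    simp
  have h1 := hR.2 _ ((Subgroup.map_mono hXR).trans hback.le) (cl_map φ.symm hX)
  rw [← h1, Subgroup.map_map]
  ext x
  simp

theorem mclJoin_map {A B : Type*} [Group A] [Group B] (φ : A ≃* B) :
    (Cfsg.minimalCentrallyLargeJoin A).map φ.toMonoidHom ≤ Cfsg.minimalCentrallyLargeJoin B := by
  rw [Subgroup.map_le_iff_le_comap, Cfsg.minimalCentrallyLargeJoin]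
  refine sSup_le fun R hR => ?_
  rw [← Subgroup.map_le_iff_le_comap]
  exact le_sSup (mcl_map φ hR)

theorem isCharPFunctor_mclFun : Cfsg.IsCharPFunctor.{u} p mclFun.{u} := by
  refine ⟨fun Q _ _ hQ hn h => ?_, fun Q R _ _ _ _ φ => ?_⟩
  · obtain ⟨X, hX⟩ := CfsgLib.LocalEven.exists_minimal_cl (P := Q)
    have hXb : X = ⊥ := le_bot_iff.1 (le_trans (le_sSup (show X ∈ {R : Subgroup Q | Cfsg.IsMinimalCentrallyLarge R} from hX)) h.le)
    subst hXb
    obtain ⟨z, hz1, -, -⟩ := exists_center_order hQ hn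
    exact hz1 (Subgroup.mem_bot.1 ((CfsgLib.LocalEven.centrallyLarge_iff.1 hX.1).2
      (Subgroup.mem_centralizer_iff.2 fun y hy => by rw [Subgroup.mem_bot.1 hy, one_mul, mul_one])))
  · refine le_antisymm (mclJoin_map φ) fun y hy => ?_
    exact ⟨φ.symm y, mclJoin_map φ.symm ⟨y, hy, rfl⟩, φ.apply_symm_apply y⟩

theorem isCharPFunctor_kFun : Cfsg.IsCharPFunctor.{u} p (kFun.{u} p) :=
  isCharPFunctor_baumFun isCharPFunctor_mclFun

theorem fam_isCharP : ∀ W ∈ fam.{u} p, Cfsg.IsCharPFunctor.{u} p W := by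
  rintro W (rfl | rfl)
  · exact isCharPFunctor_cFun
  · exact isCharPFunctor_kFun

theorem inducedFunctor_cFun {G : Type u} [Group G] (U : Subgroup G) :
    Cfsg.inducedFunctor cFun.{u} U = U ⊓ Subgroup.centralizer (U : Set G) :=
  CfsgLib.LocalEven.map_center_eq_inf U

theorem inducedFunctor_kFun {G : Type u} [Group G] [Finite G] {U : Subgroup G} (hU : IsPGroup p U) :
    Cfsg.inducedFunctor (kFun.{u} p) U =
      Cfsg.inducedFunctor mclFun.{u} (Cfsg.baumannSubgroupOf p U) :=
  CfsgLib.FocalOdd.inducedFunctor_baumFun isCharPFunctor_mclFun hU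

end CfsgLib.FocalThree
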