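import Cfsg.Agent.Lib.FocalThree.Final
import Cfsg.Agent.Lib.Transfer.Focal

/-!
# The two normalizers that control transfer for `p = 3`
-/

set_option autoImplicit false
set_option maxHeartbeats 400000
set_option linter.unusedSectionVars false
set_option linter.style.haveILetI false

open scoped commutatorElement

namespace CfsgLib.FocalThree

open CfsgLib.ConjFunctor

universe u

variable [Fact (Nat.Prime 3)]

theorem focal_le_aux : ∀ m : ℕ, ∀ (G : Type u) [Group G] [Finite G],
    Nat.card G < m → ∀ S : Sylow 3 G,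
      (S : Subgroup G) ⊓ commutator G ≤ tgt (fam.{u} 3) (S : Subgroup G) := by
  intro m
  induction m with
  | zero => intro G _ _ hc; omega
  | succ m ih =>
    intro G _ _ hc S
    by_contra hG
    have hprop : ProperControl 3 (fam.{u} 3) G := fun H _ _ _ hlt T => ih H (by omega) T
    obtain ⟨M, hMdef, hcon, ⟨hMne, hMuniq⟩, ⟨hc1, hc2⟩, -⟩ :=
      transfer_critical fam_isCharP (fam_nonempty 3) hprop S hG
    exact Crit.absurd_three (S := S) (M := M)
      { odd := by norm_num
        proper := hprop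
        bad := (exists_critical fam_isCharP hprop S hG).2
        con := hcon
        Mne := hMne
        Muniq := hMuniq
        Mdef := hMdef
        comm := (hc1.trans hc2).trans (le_of_eq (inf_comm _ _)) }

variable {G : Type u} [Group G] [Finite G]

/-- The family controls transfer. -/
theorem focal_le (S : Sylow 3 G) :
    (S : Subgroup G) ⊓ commutator G ≤ tgt (fam.{u} 3) (S : Subgroup G) :=
  focal_le_aux (Nat.card G + 1) G (Nat.lt_succ_self _) S

theorem mem_of_normalizes {H X : Subgroup G} {x : G}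
    (hH : H ≤ Subgroup.normalizer (X : Set G)) {y : G} (hy : y ∈ H) (hx : x ∈ X) :
    y * x * y⁻¹ ∈ X := (Subgroup.mem_normalizer_iff.1 (hH hy) x).1 hx

/-- The centre's normalizer reduces to its centralizer and to the second normalizer. -/
theorem inf_normalizer_center_le (S : Sylow 3 G) :
    let Z := (S : Subgroup G) ⊓ Subgroup.centralizer ((S : Subgroup G) : Set G)
    let K := Cfsg.inducedFunctor (G := G) (kFun.{u} 3) (S : Subgroup G)
    (S : Subgroup G) ⊓ ⁅Subgroup.normalizer (Z : Set G), Subgroup.normalizer (Z : Set G)⁆ ≤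
      ((S : Subgroup G) ⊓ ⁅Subgroup.centralizer (Z : Set G), Subgroup.centralizer (Z : Set G)⁆) ⊔
        ((S : Subgroup G) ⊓ ⁅Subgroup.normalizer (K : Set G), Subgroup.normalizer (K : Set G)⁆) := by
  intro Z K
  set L := Subgroup.normalizer (Z : Set G) with hL
  set C := Subgroup.centralizer (Z : Set G) with hC
  have hSC : (S : Subgroup G) ≤ C := fun s hs => Subgroup.mem_centralizer_iff.2 fun z hz =>
    (Subgroup.mem_centralizer_iff.1 hz.2 s hs).symm
  have hCL : C ≤ L := Subgroup.centralizer_le_normalizer _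
  have hNK : Subgroup.normalizer ((S : Subgroup G) : Set G) ≤ Subgroup.normalizer (K : Set G) :=
    normalizer_le_functor (isConjugacyFunctor_inducedFunctor isCharPFunctor_kFun.{u}) S.isPGroup'
  set S' := S.subtype (hSC.trans hCL) with hS'
  have hS'map : (S' : Subgroup L).map L.subtype = (S : Subgroup G) := by
    rw [hS', Sylow.coe_subtype, Subgroup.subgroupOf_map_subtype, inf_eq_left.2 (hSC.trans hCL)]
  haveI : (C.subgroupOf L).Normal := by
    refine ⟨fun c hc l => Subgroup.mem_centralizer_iff.2 fun z hz => ?_⟩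
    have hz' := (Subgroup.mem_normalizer_iff''.1 l.2 z).1 hz
    have e := Subgroup.mem_centralizer_iff.1 hc _ hz'
    simp only [Subgroup.coe_subtype, Subgroup.coe_mul, Subgroup.coe_inv] at e ⊢
    calc z * ((l : G) * c * (l : G)⁻¹) = (l : G) * ((l : G)⁻¹ * z * l * c) * (l : G)⁻¹ := by group
      _ = (l : G) * (c * ((l : G)⁻¹ * z * l)) * (l : G)⁻¹ := by rw [e]
      _ = (l : G) * c * (l : G)⁻¹ * z := by group
  rintro x ⟨hxS, hxc⟩
  rw [← Subgroup.range_subtype L, MonoidHom.range_eq_map, ← Subgroup.map_commutator,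
    ← commutator_def] at hxc
  obtain ⟨y, hy, rfl⟩ := hxc
  have hyS : y ∈ (S' : Subgroup L) := by
    rw [hS', Sylow.coe_subtype]; exact hxS
  have hf : y ∈ (S' : Subgroup L).focalSubgroup :=
    (Subgroup.commutator_inf_eq_focalSubgroup S').le ⟨hy, hyS⟩
  revert hf
  suffices key : (S' : Subgroup L).focalSubgroup ≤
      (((S : Subgroup G) ⊓ ⁅C, C⁆) ⊔ ((S : Subgroup G) ⊓
        ⁅Subgroup.normalizer (K : Set G), Subgroup.normalizer (K : Set G)⁆)).comap L.subtype from
    fun hf => key hf
  rw [Subgroup.focalSubgroup_def, Subgroup.closure_le]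
  rintro t ⟨ht, a, ha, l, rfl⟩
  have haS : (a : G) ∈ (S : Subgroup G) := hS'map.le ⟨a, ha, rfl⟩
  have htS : ((⁅a, l⁆ : L) : G) ∈ (S : Subgroup G) := hS'map.le ⟨_, ht, rfl⟩
  obtain ⟨c, hc, hn⟩ := frattini_argument S' (C.subgroupOf L) l
  have hS'C : (S' : Subgroup L) ≤ C.subgroupOf L := fun r hr => hSC (hS'map.le ⟨r, hr, rfl⟩)
  rw [inf_eq_left.2 hS'C] at hn
  have hn' : ((c * l : L) : G) ∈ Subgroup.normalizer ((S : Subgroup G) : Set G) := by
    have h2 := Subgroup.le_normalizer_map L.subtype ⟨_, hn, rfl⟩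
    rwa [hS'map] at h2
  have hcC : (c : G) ∈ C := hc
  refine Subgroup.mem_comap.2 ?_
  rw [Subgroup.coe_subtype]
  have e0 : ((⁅a, l⁆ : L) : G) = ⁅(a : G), (l : G)⁆ := map_commutatorElement L.subtype a l
  rw [e0] at htS ⊢
  rw [Subgroup.coe_mul] at hn'
  set nn := (c : G) * l with hnn
  have hl : (l : G) = (c : G)⁻¹ * nn := by rw [hnn]; group
  set w := nn * (a : G)⁻¹ * nn⁻¹ with hw
  have hwS : w ∈ (S : Subgroup G) := (Subgroup.mem_normalizer_iff.1 hn' _).1 (inv_mem haS)
  have e : ⁅(a : G), (l : G)⁆ = ⁅(a : G), nn⁆ * ⁅w⁻¹, (c : G)⁻¹⁆ := by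
    rw [hl, hw]; simp only [commutatorElement_def]; group
  have h1 : ⁅(a : G), nn⁆ ∈ (S : Subgroup G) := by
    have h := mul_mem haS hwS
    rw [commutatorElement_def]
    simpa [hw, mul_assoc] using h
  have h2 : ⁅w⁻¹, (c : G)⁻¹⁆ ∈ (S : Subgroup G) := by
    have h := mul_mem (inv_mem h1) htS
    rw [e, inv_mul_cancel_left] at h
    exact h
  rw [e]
  exact mul_mem (Subgroup.mem_sup_right ⟨h1, Subgroup.commutator_mem_commutator
    (hNK (Subgroup.le_normalizer haS)) (hNK hn')⟩) (Subgroup.mem_sup_left ⟨h2,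
      Subgroup.commutator_mem_commutator (hSC (inv_mem hwS)) (inv_mem hcC)⟩)

/-- `S ∩ G'` is the product of the two pieces. -/
theorem focal_product (S : Sylow 3 G) (g : G) :
    g ∈ (S : Subgroup G) ⊓ commutator G ↔
      ∃ a ∈ (S : Subgroup G) ⊓ ⁅Subgroup.centralizer (((S : Subgroup G) ⊓
          Subgroup.centralizer ((S : Subgroup G) : Set G) : Subgroup G) : Set G),
        Subgroup.centralizer (((S : Subgroup G) ⊓
          Subgroup.centralizer ((S : Subgroup G) : Set G) : Subgroup G) : Set G)⁆,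
      ∃ b ∈ (S : Subgroup G) ⊓ ⁅Subgroup.normalizer
          ((Cfsg.inducedFunctor (G := G) (kFun.{u} 3) (S : Subgroup G) : Subgroup G) : Set G),
        Subgroup.normalizer
          ((Cfsg.inducedFunctor (G := G) (kFun.{u} 3) (S : Subgroup G) : Subgroup G) : Set G)⁆,
        g = a * b := by
  set Z := (S : Subgroup G) ⊓ Subgroup.centralizer ((S : Subgroup G) : Set G) with hZ
  set C := Subgroup.centralizer (Z : Set G) with hC
  set K := Cfsg.inducedFunctor (G := G) (kFun.{u} 3) (S : Subgroup G) with hK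
  set NK := Subgroup.normalizer (K : Set G) with hNKd
  constructor
  · intro hg
    have hle : tgt (fam.{u} 3) (S : Subgroup G) ≤
        ((S : Subgroup G) ⊓ ⁅C, C⁆) ⊔ ((S : Subgroup G) ⊓ ⁅NK, NK⁆) := by
      refine iSup₂_le fun W hW => ?_
      rcases hW with rfl | rfl
      · rw [inducedFunctor_cFun]
        exact inf_normalizer_center_le S
      · exact le_sup_right
    have hgm := hle (focal_le S hg)
    have hSC : (S : Subgroup G) ≤ C := fun s hs => Subgroup.mem_centralizer_iff.2 fun z hz =>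
      (Subgroup.mem_centralizer_iff.1 hz.2 s hs).symm
    have hSN : (S : Subgroup G) ⊓ ⁅NK, NK⁆ ≤
        Subgroup.normalizer (((S : Subgroup G) ⊓ ⁅C, C⁆ : Subgroup G) : Set G) := by
      refine inf_le_left.trans fun s hs => ?_
      refine CfsgLib.PLocal.mem_normalizer_of_map_conj_eq ?_
      rw [Subgroup.map_inf _ _ _ (MulAut.conj s).injective, Subgroup.map_commutator,
        CfsgLib.PLocal.map_conj_eq_of_mem_normalizer (Subgroup.le_normalizer hs),
        CfsgLib.PLocal.map_conj_eq_of_mem_normalizer (Subgroup.le_normalizer (hSC hs))]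
    have hgm' : g ∈ ((((S : Subgroup G) ⊓ ⁅C, C⁆) ⊔ ((S : Subgroup G) ⊓ ⁅NK, NK⁆) : Subgroup G) :
        Set G) := hgm
    rw [Subgroup.coe_mul_of_right_le_normalizer_left _ _ hSN] at hgm'
    obtain ⟨a, ha, b, hb, rfl⟩ := hgm'
    exact ⟨a, ha, b, hb, rfl⟩
  · rintro ⟨a, ha, b, hb, rfl⟩
    exact ⟨mul_mem ha.1 hb.1, mul_mem (Subgroup.commutator_mono le_top le_top ha.2)
      (Subgroup.commutator_mono le_top le_top hb.2)⟩

end CfsgLib.FocalThree
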