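import Cfsg.Agent.Lib.FocalOdd.Module
import Cfsg.Agent.Lib.FocalThree.Critical

/-!
# `Ω₁(Z(O_p(G)))` in a minimal failure of the two functors
-/

set_option autoImplicit false
set_option maxHeartbeats 400000
set_option linter.unusedSectionVars false
set_option linter.style.haveILetI false

open scoped commutatorElement MatrixGroups IsMulCommutative

namespace CfsgLib.FocalThree

open Matrix CfsgLib.LocalEven.Pair CfsgLib.OffenderPair CfsgLib.ConjFunctor
open CfsgLib.FocalOdd (conjRep conjRep_apply conjRep_eq_iff Elem UT uni uni_UT uni_zero uni_injective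
  uni_mulVec Frame HypT Hyp offJ offJp Exact omegaOneCenter_spec
  mem_omegaOneCenter_of omegaOneCenter_map exists_fix_ne)

universe u

/-- `[[0, 1], [-1, 0]]`. -/
def weyl {F : Type*} [Field F] : SpecialLinearGroup (Fin 2) F :=
  ⟨!![0, 1; -1, 0], by simp [Matrix.det_fin_two]⟩

variable {p : ℕ} [Fact p.Prime] {G : Type u} [Group G] [Finite G] {S : Sylow p G} {M : Subgroup G}

/-- The action on `V = Ω₁(Z(O_p(G)))`. -/
structure SL2Data (S : Sylow p G) (F : Type) [Field F] [Fintype F] (n : ℕ)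
    (f : G →* SpecialLinearGroup (Fin 2) F) : Prop where
  one_le : 1 ≤ n
  card : Fintype.card F = p ^ n
  surj : Function.Surjective f
  ker : f.ker = Subgroup.centralizer (Cfsg.omegaOneCenter p (Cfsg.pCore p G) : Set G)
  uni_of_mem : ∀ x ∈ (S : Subgroup G), ∃ s, f x = uni s
  offender : ∀ A ∈ CfsgLib.PLocal.maxEAIn p (S : Subgroup G), ¬ A ≤ Cfsg.pCore p G →
    A ⊔ Cfsg.pCore p G = (S : Subgroup G) ∧
      Nat.card A = p ^ n * Nat.card ↥(A ⊓ Cfsg.pCore p G) ∧
      Nat.card (Cfsg.omegaOneCenter p (Cfsg.pCore p G)) =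
        p ^ n * Nat.card ↥(Cfsg.omegaOneCenter p (Cfsg.pCore p G) ⊓ A) ∧
      (A ⊓ Cfsg.pCore p G) ⊔ Cfsg.omegaOneCenter p (Cfsg.pCore p G) ∈
        CfsgLib.PLocal.maxEAIn p (S : Subgroup G)
  fixS : ∀ x ∈ (S : Subgroup G), x ∉ Cfsg.pCore p G → ∀ v ∈ Cfsg.omegaOneCenter p (Cfsg.pCore p G),
    x * v = v * x → v ∈ Subgroup.centralizer ((S : Subgroup G) : Set G)
  cardV : Nat.card (Cfsg.omegaOneCenter p (Cfsg.pCore p G)) = p ^ n *
    Nat.card ↥(Cfsg.omegaOneCenter p (Cfsg.pCore p G) ⊓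
      Subgroup.centralizer ((S : Subgroup G) : Set G))
  split : ∀ g : G, f g = weyl → ∀ v ∈ Cfsg.omegaOneCenter p (Cfsg.pCore p G),
    ∃ a ∈ Cfsg.omegaOneCenter p (Cfsg.pCore p G) ⊓ Subgroup.centralizer ((S : Subgroup G) : Set G),
    ∃ b ∈ Cfsg.omegaOneCenter p (Cfsg.pCore p G) ⊓ Subgroup.centralizer ((S : Subgroup G) : Set G),
      v = a * (g * b * g⁻¹)
  fixed : ∀ τ : G, f τ = -1 → ∀ v ∈ Cfsg.omegaOneCenter p (Cfsg.pCore p G), τ * v = v * τ →
    ∀ x : G, (orderOf x).Coprime p → x * v = v * x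

namespace Crit

theorem z0_le_V (h : Crit p G S M) :
    Cfsg.omegaOneCenter p (S : Subgroup G) ≤ Cfsg.omegaOneCenter p (Cfsg.pCore p G) := fun x hx => by
  obtain ⟨hxS, hc, ho⟩ := omegaOneCenter_spec hx
  exact mem_omegaOneCenter_of (h.zS_le_P ⟨hxS, Subgroup.mem_centralizer_iff.2 hc⟩)
    (fun y hy => hc y (P_le S hy)) ho

theorem inf_normal_le (h : Crit p G S M) {N : Subgroup G} (hN : N.Normal) (hNM : N ≤ M) :
    (S : Subgroup G) ⊓ N ≤ Cfsg.pCore p G := by
  haveI := hN
  have hSn : (S : Subgroup G) ≤ Subgroup.normalizer (((S : Subgroup G) ⊓ N : Subgroup G) : Set G) :=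
    fun s hs => CfsgLib.PLocal.mem_normalizer_of_map_conj_eq (by
      rw [Subgroup.map_inf _ _ _ (MulAut.conj s).injective,
        CfsgLib.PLocal.map_conj_eq_of_mem_normalizer (Subgroup.le_normalizer hs),
        CfsgLib.PLocal.map_conj_eq_of_mem_normalizer (by rw [Subgroup.normalizer_eq_top]; trivial)])
  have htop : Subgroup.normalizer (((S : Subgroup G) ⊓ N : Subgroup G) : Set G) = ⊤ := by
    by_contra hne
    refine h.Mne (top_le_iff.1 fun g _ => ?_)
    obtain ⟨c, hc, hcg⟩ := frattini_argument S N g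
    simpa using mul_mem (inv_mem (hNM hc)) (h.Muniq _ hSn hne hcg)
  exact CfsgLib.Solvable.le_pCore (Subgroup.normalizer_eq_top_iff.1 htop)
    (S.isPGroup'.to_le inf_le_left)

theorem P_le_cent_V :
    Cfsg.pCore p G ≤ Subgroup.centralizer (Cfsg.omegaOneCenter p (Cfsg.pCore p G) : Set G) :=
  fun x hx => Subgroup.mem_centralizer_iff.2 fun _ hz => ((omegaOneCenter_spec hz).2.1 x hx).symm

theorem inf_cent_V (h : Crit p G S M) :
    (S : Subgroup G) ⊓ Subgroup.centralizer (Cfsg.omegaOneCenter p (Cfsg.pCore p G) : Set G) =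
      Cfsg.pCore p G := by
  haveI := normal_V p G
  exact le_antisymm (h.inf_normal_le inferInstance h.cent_V_le) (le_inf (P_le S) P_le_cent_V)

theorem le_cent_V_of_pow (h : Crit p G S M) {N : Subgroup G} (hN : N.Normal)
    (hpow : ∀ x ∈ N, ∃ n : ℕ,
      x ^ p ^ n ∈ Subgroup.centralizer (Cfsg.omegaOneCenter p (Cfsg.pCore p G) : Set G)) :
    N ≤ Subgroup.centralizer (Cfsg.omegaOneCenter p (Cfsg.pCore p G) : Set G) := by
  haveI := normal_V p G
  haveI := hN
  set C := Subgroup.centralizer (Cfsg.omegaOneCenter p (Cfsg.pCore p G) : Set G) with hC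
  let f : N →* G ⧸ C := (QuotientGroup.mk' C).comp N.subtype
  have hrp : IsPGroup p f.range := by
    rintro ⟨_, x, rfl⟩
    obtain ⟨n, hn⟩ := hpow x x.2
    exact ⟨n, Subtype.ext (show QuotientGroup.mk' C (x : G) ^ p ^ n = 1 by
      rw [← map_pow]; exact (QuotientGroup.eq_one_iff _).2 hn)⟩
  obtain ⟨S₀, hS₀T, -⟩ := exists_sylow_map (isSyl_inf_normal S N)
  set S₁ := S₀.mapSurjective f.rangeRestrict_surjective
  have htop : (S₁ : Subgroup f.range) = ⊤ :=
    (S₁.is_maximal' (hrp.to_subgroup ⊤) le_top).symm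
  have hdec : ∀ x ∈ N, ∃ s ∈ (S : Subgroup G) ⊓ N, s⁻¹ * x ∈ C := by
    intro x hx
    obtain ⟨s, hs, hse⟩ : f.rangeRestrict ⟨x, hx⟩ ∈ (S₀ : Subgroup N).map f.rangeRestrict :=
      htop.ge (Subgroup.mem_top _)
    have e : QuotientGroup.mk' C (s : G) = QuotientGroup.mk' C x := congrArg Subtype.val hse
    exact ⟨s, hS₀T.le ⟨s, hs, rfl⟩, QuotientGroup.eq.1 e⟩
  have hNM : N ≤ M := fun x hx => by
    obtain ⟨s, hs, hsx⟩ := hdec x hx
    simpa using mul_mem (h.S_le hs.1) (h.cent_V_le hsx)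
  intro x hx
  obtain ⟨s, hs, hsx⟩ := hdec x hx
  simpa using mul_mem (P_le_cent_V (h.inf_normal_le hN hNM hs)) hsx

set_option maxHeartbeats 1000000 in
/-- The structure of the action on `Ω₁(Z(O_p(G)))`. -/
theorem exists_sl2 (h : Crit p G S M) :
    ∃ (F : Type) (_ : Field F) (_ : Fintype F) (n : ℕ) (f : G →* SpecialLinearGroup (Fin 2) F),
      SL2Data S F n f := by
  classical
  haveI hVn := normal_V p G
  set P := Cfsg.pCore p G with hPdef
  set V := Cfsg.omegaOneCenter p P with hVdef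
  have hVe : Cfsg.IsElementaryAbelian p V := CfsgLib.PLocal.omegaCenter_isEA P
  haveI : IsMulCommutative V := hVe.1
  have hVP : V ≤ P := fun x hx => (omegaOneCenter_spec hx).1
  set C := Subgroup.centralizer (V : Set G) with hC
  haveI : C.Normal := inferInstance
  set ρ := conjRep V with hρdef
  have hppos : ∀ v : Additive V, p • v = 0 := fun v => by
    apply Additive.toMul.injective
    rw [toMul_nsmul]
    exact Subtype.ext (hVe.2 _ v.toMul.2)
  have hCtriv : ∀ c ∈ C, ∀ v, ρ c v = v := fun c hc v =>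
    (conjRep_eq_iff V c v).2 (Subgroup.mem_centralizer_iff.1 hc _ v.toMul.2).symm
  have hmemC : ∀ c, (∀ v, ρ c v = v) → c ∈ C := fun c hc => Subgroup.mem_centralizer_iff.2
    fun x hx => ((conjRep_eq_iff V c (Additive.ofMul ⟨x, hx⟩)).1 (hc _)).symm
  -- the largest invariant part acted on by a `p`-group
  obtain ⟨Y₀, ⟨hY₀i, hY₀p⟩, hY₀max⟩ := Set.exists_max_image
    {D : AddSubgroup (Additive V) | (∀ g, ∀ v ∈ D, ρ g v ∈ D) ∧
      ∀ g : G, ∃ n : ℕ, ∀ v ∈ D, ρ (g ^ p ^ n) v = v}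
    (fun D => Nat.card D) (Set.toFinite _)
    ⟨⊥, fun g v hv => by rw [AddSubgroup.mem_bot] at hv ⊢; rw [hv, map_zero],
      fun g => ⟨0, fun v hv => by rw [AddSubgroup.mem_bot.1 hv, map_zero]⟩⟩
  have hpfix : ∀ (u : G) (v : Additive V), (∀ w ∈ Y₀, ρ u w = w) → ρ u v - v ∈ Y₀ →
      ρ (u ^ p) v = v := by
    intro u v hu hv
    have hn : ∀ k : ℕ, ρ (u ^ k) v = v + k • (ρ u v - v) := by
      intro k
      induction k with
      | zero => rw [pow_zero, act_one, zero_nsmul, add_zero]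
      | succ k ih =>
        rw [pow_succ', act_mul, ih, map_add, map_nsmul, hu _ hv, succ_nsmul]
        abel
    rw [hn, hppos, add_zero]
  have hstable : ∀ v, (∀ g, ρ g v - v ∈ Y₀) → v ∈ Y₀ := by
    intro v hv
    let D := Y₀ ⊔ AddSubgroup.zmultiples v
    have hD : (∀ g, ∀ w ∈ D, ρ g w ∈ D) ∧ ∀ g : G, ∃ n : ℕ, ∀ w ∈ D, ρ (g ^ p ^ n) w = w := by
      refine ⟨fun g => ?_, fun g => ?_⟩
      · have : D ≤ D.comap (ρ g) := sup_le (fun w hw => AddSubgroup.mem_sup_left (hY₀i g w hw))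
          (AddSubgroup.zmultiples_le.2 (by
            show ρ g v ∈ D
            rw [← sub_add_cancel (ρ g v) v]
            exact AddSubgroup.add_mem_sup (hv g) (AddSubgroup.mem_zmultiples v)))
        exact fun w hw => this hw
      · obtain ⟨n, hn⟩ := hY₀p g
        refine ⟨n + 1, fun w hw => ?_⟩
        obtain ⟨a, ha, b, hb, rfl⟩ := AddSubgroup.mem_sup.1 hw
        obtain ⟨i, rfl⟩ := AddSubgroup.mem_zmultiples_iff.1 hb
        have h1 : ρ (g ^ p ^ (n + 1)) v = v := by
          rw [pow_succ, pow_mul]; exact hpfix _ v hn (hv _)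
        have h2 : ρ (g ^ p ^ (n + 1)) a = a := by
          have h3 : ∀ k : ℕ, ρ ((g ^ p ^ n) ^ k) a = a := by
            intro k
            induction k with
            | zero => rw [pow_zero, act_one]
            | succ k ih => rw [pow_succ', act_mul, ih, hn a ha]
          rw [pow_succ, pow_mul]; exact h3 p
        rw [map_add, map_zsmul, h1, h2]
    have h1 : Y₀ = D := by
      refine le_antisymm le_sup_left (fun x hx => ?_)
      by_contra hxY
      have hlt : Nat.card Y₀ < Nat.card D := by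
        refine lt_of_le_of_ne (Nat.card_le_card_of_injective
          (fun y : Y₀ => (⟨y, AddSubgroup.mem_sup_left y.2⟩ : D))
          fun a b e => Subtype.ext (congrArg (fun w : D => (w : Additive V)) e)) fun he => hxY ?_
        have hb : Function.Bijective (fun y : Y₀ => (⟨y, AddSubgroup.mem_sup_left y.2⟩ : D)) :=
          (Nat.bijective_iff_injective_and_card _).2
            ⟨fun a b e => Subtype.ext (congrArg (fun w : D => (w : Additive V)) e), he⟩
        obtain ⟨y, hy⟩ := hb.2 ⟨x, hx⟩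
        have e := congrArg (fun w : D => (w : Additive V)) hy
        exact (show (y : Additive V) = x from e) ▸ y.2
      exact absurd (hY₀max D hD) (not_le.2 hlt)
    rw [h1]
    exact AddSubgroup.mem_sup_right (AddSubgroup.mem_zmultiples v)
  have hker : ∀ g, (∀ v, ρ g v - v ∈ Y₀) → g ∈ C := by
    let N : Subgroup G :=
      { carrier := {g | ∀ v, ρ g v - v ∈ Y₀}
        one_mem' := fun v => by rw [act_one, sub_self]; exact zero_mem _
        mul_mem' := fun {a b} ha hb v => by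
          rw [act_mul, show ρ a (ρ b v) - v = (ρ a (ρ b v) - ρ b v) + (ρ b v - v) by abel]
          exact add_mem (ha _) (hb v)
        inv_mem' := fun {a} ha v => by
          have h1 := ha (ρ a⁻¹ v)
          rw [act_act_inv] at h1
          rw [← neg_sub]; exact neg_mem h1 }
    have hNn : N.Normal := ⟨fun x hx g v => by
      have e : ρ (g * x * g⁻¹) v - v = ρ g (ρ x (ρ g⁻¹ v) - ρ g⁻¹ v) := by
        rw [map_sub, act_act_inv, act_mul, act_mul]
      rw [e]; exact hY₀i g _ (hx _)⟩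
    refine fun g hg => h.le_cent_V_of_pow hNn (fun x hx => ?_) hg
    obtain ⟨n, hn⟩ := hY₀p x
    refine ⟨n + 1, hmemC _ fun v => ?_⟩
    rw [pow_succ, pow_mul]
    exact hpfix _ v hn (pow_mem (show x ∈ N from hx) _ v)
  -- the quotient
  have hY₀ρ : ∀ g, Y₀ ≤ Y₀.comap (ρ g) := fun g v hv => hY₀i g v hv
  let ρb : G →* AddMonoid.End (Additive V ⧸ Y₀) :=
    { toFun := fun g => QuotientAddGroup.map Y₀ Y₀ (ρ g) (hY₀ρ g)
      map_one' := AddMonoidHom.ext fun q => by
        induction q using QuotientAddGroup.induction_on with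
        | _ v => show ((ρ 1 v : Additive V) : Additive V ⧸ Y₀) = v; rw [act_one]
      map_mul' := fun g k => AddMonoidHom.ext fun q => by
        induction q using QuotientAddGroup.induction_on with
        | _ v =>
          show ((ρ (g * k) v : Additive V) : Additive V ⧸ Y₀) = ((ρ g (ρ k v) : Additive V) : Additive V ⧸ Y₀)
          rw [act_mul] }
  have hρb : C ≤ ρb.ker := fun c hc => AddMonoidHom.ext fun q => by
    induction q using QuotientAddGroup.induction_on with
    | _ v => show ((ρ c v : Additive V) : Additive V ⧸ Y₀) = v; rw [hCtriv c hc]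
  set π := QuotientGroup.mk' C with hπdef
  have hπ : Function.Surjective π := QuotientGroup.mk'_surjective C
  let σ : G ⧸ C →* AddMonoid.End (Additive V ⧸ Y₀) := QuotientGroup.lift C ρb hρb
  let mk : Additive V →+ Additive V ⧸ Y₀ := QuotientAddGroup.mk' Y₀
  have hσ : ∀ g v, σ (π g) (mk v) = mk (ρ g v) := fun g v => rfl
  have hmk : ∀ {v w : Additive V}, mk v = mk w ↔ v - w ∈ Y₀ := fun {v w} => by
    rw [← sub_eq_zero, ← map_sub]; exact QuotientAddGroup.eq_zero_iff _
  have hCM : C ≤ M := h.cent_V_le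
  set Mb := M.map π with hMb
  have hcomap : Mb.comap π = M := Subgroup.comap_map_eq_self (by rw [QuotientGroup.ker_mk']; exact hCM)
  set T := S.mapSurjective hπ with hTdef
  have hT : (T : Subgroup (G ⧸ C)) = (S : Subgroup G).map π := rfl
  -- offenders
  have hAC : ∀ A : Subgroup G, A ≤ (S : Subgroup G) → A ⊓ π.ker = A ⊓ P := by
    intro A hA
    rw [QuotientGroup.ker_mk', hPdef, ← h.inf_cent_V, ← inf_assoc, inf_eq_left.2 hA]
  have hcardA : ∀ A : Subgroup G, A ≤ (S : Subgroup G) →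
      Nat.card A = Nat.card ↥(A.map π) * Nat.card ↥(A ⊓ P) := fun A hA => by
    have e := CfsgLib.OffenderPair.card_inf_comap π A (le_refl (A.map π))
    rwa [inf_eq_left.2 (Subgroup.le_comap_map π A), hAC A hA] at e
  have hsup : ∀ A ∈ CfsgLib.PLocal.maxEAIn p (S : Subgroup G),
      Nat.card ↥((A ⊓ P) ⊔ V) * Nat.card ↥(V ⊓ A) = Nat.card ↥(A ⊓ P) * Nat.card V ∧
      (A ⊓ P) ⊔ V ≤ (S : Subgroup G) ∧ Cfsg.IsElementaryAbelian p ((A ⊓ P) ⊔ V) := by
    intro A hA
    refine ⟨?_, sup_le (inf_le_right.trans (P_le S)) (hVP.trans (P_le S)),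
      CfsgLib.PLocal.isEA_sup (CfsgLib.PLocal.isEA_mono hA.2.1 inf_le_left) hVe
        fun x hx => P_le_cent_V hx.2⟩
    have e := CfsgLib.PLoc.card_sup_mul_card_inf (H := A ⊓ P) (N := V) Subgroup.le_normalizer_of_normal
    rwa [show (A ⊓ P) ⊓ V = V ⊓ A by rw [inf_assoc, inf_eq_right.2 hVP, inf_comm]] at e
  have hFA : ∀ A ∈ CfsgLib.PLocal.maxEAIn p (S : Subgroup G),
      Nat.card (fix ρ A) = Nat.card ↥(V ⊓ A) := by
    intro A hA
    refine Nat.card_congr
      { toFun := fun v => ⟨(v : Additive V).toMul, ((v : Additive V).toMul).2,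
          CfsgLib.PLocal.mem_maxEAIn_of_centralizing hA (P_le S (hVP ((v : Additive V).toMul).2))
            (Subgroup.mem_centralizer_iff.2 fun a ha => (conjRep_eq_iff V a _).1 (v.2 a ha))
            (hVe.2 _ ((v : Additive V).toMul).2)⟩
        invFun := fun x => ⟨Additive.ofMul ⟨x, x.2.1⟩, fun a ha =>
          (conjRep_eq_iff V a _).2 (CfsgLib.PLocal.commute_of_mem_comm hA.2.1.1 ha x.2.2).eq⟩
        left_inv := fun v => rfl
        right_inv := fun x => rfl }
  have hVY : Nat.card (Additive V) = Nat.card (Additive V ⧸ Y₀) * Nat.card Y₀ :=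
    AddSubgroup.card_eq_card_quotient_mul_card_addSubgroup Y₀
  have hcV : Nat.card (Additive V) = Nat.card V := Nat.card_congr Additive.toMul
  -- fixed points upstairs and downstairs
  have hdesc : ∀ A : Subgroup G, (fix ρ A).map mk ≤ fix σ (A.map π) ∧
      Nat.card (fix ρ A) = Nat.card ↥((fix ρ A).map mk) * Nat.card ↥(fix ρ A ⊓ Y₀) := by
    intro A
    refine ⟨?_, ?_⟩
    · rintro _ ⟨v, hv, rfl⟩ _ ⟨a, ha, rfl⟩
      rw [hσ, hv a ha]
    · let g := mk.comp (fix ρ A).subtype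
      have hr : g.range = (fix ρ A).map mk := by
        rw [AddMonoidHom.range_comp, AddSubgroup.range_subtype]
      have hk : Nat.card g.ker = Nat.card ↥(fix ρ A ⊓ Y₀) :=
        Nat.card_congr
          { toFun := fun x => ⟨(x : fix ρ A), (x : fix ρ A).2,
              (QuotientAddGroup.eq_zero_iff _).1 (AddMonoidHom.mem_ker.1 x.2 :)⟩
            invFun := fun y => ⟨⟨y, y.2.1⟩, AddMonoidHom.mem_ker.2
              ((QuotientAddGroup.eq_zero_iff _).2 y.2.2)⟩
            left_inv := fun x => rfl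
            right_inv := fun y => rfl }
      rw [← hr, ← hk, ← AddSubgroup.index_ker, AddSubgroup.index_mul_card]
  have hoff : ∀ A ∈ CfsgLib.PLocal.maxEAIn p (S : Subgroup G),
      Nat.card V ≤ Nat.card ↥(A.map π) * Nat.card (fix ρ A) ∧
      Nat.card (Additive V ⧸ Y₀) ≤ meas σ (A.map π) := by
    intro A hA
    obtain ⟨he, hle, hea⟩ := hsup A hA
    have h1 : Nat.card V ≤ Nat.card ↥(A.map π) * Nat.card (fix ρ A) := by
      rw [hFA A hA]
      refine Nat.le_of_mul_le_mul_left ?_ (Nat.card_pos (α := ↥(A ⊓ P)))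
      rw [← he, ← mul_assoc, mul_comm (Nat.card ↥(A ⊓ P)), ← hcardA A hA.1]
      exact Nat.mul_le_mul_right _ (hA.2.2 _ hle hea)
    refine ⟨h1, ?_⟩
    obtain ⟨hd1, hd2⟩ := hdesc A
    have h2 : Nat.card ↥((fix ρ A).map mk) ≤ Nat.card (fix σ (A.map π)) :=
      Nat.card_le_card_of_injective (fun x : ↥((fix ρ A).map mk) => (⟨x, hd1 x.2⟩ : fix σ (A.map π)))
        fun a b e => Subtype.ext (congrArg (fun w : fix σ (A.map π) => (w : Additive V ⧸ Y₀)) e)
    have h3 : Nat.card ↥(fix ρ A ⊓ Y₀) ≤ Nat.card Y₀ :=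
      Nat.card_le_card_of_injective (fun x : ↥(fix ρ A ⊓ Y₀) => (⟨x, x.2.2⟩ : Y₀))
        fun a b e => Subtype.ext (congrArg (fun w : Y₀ => (w : Additive V)) e)
    rw [← hcV, hVY, hd2] at h1
    refine Nat.le_of_mul_le_mul_right (h1.trans ?_) (Nat.card_pos (α := Y₀))
    rw [meas, mul_assoc]
    exact Nat.mul_le_mul_left _ (Nat.mul_le_mul h2 h3)
  have hElem : ∀ A ∈ CfsgLib.PLocal.maxEAIn p (S : Subgroup G), Elem p (A.map π) := fun A hA =>
    Elem.map (⟨hA.2.1.2, fun a ha b hb =>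
      (CfsgLib.PLocal.commute_of_mem_comm hA.2.1.1 ha hb).eq⟩ : Elem p A) π
  have hne : ∀ A ∈ CfsgLib.PLocal.maxEAIn p (S : Subgroup G), ¬ A ≤ P → A.map π ≠ ⊥ := by
    intro A hA hAP he
    refine hAP fun a ha => ?_
    rw [hPdef, ← h.inf_cent_V]
    exact ⟨hA.1 ha, (QuotientGroup.eq_one_iff a).1 (Subgroup.mem_bot.1 (he.le ⟨a, ha, rfl⟩))⟩
  obtain ⟨A₀, hA₀, hA₀P⟩ : ∃ A ∈ CfsgLib.PLocal.maxEAIn p (S : Subgroup G), ¬ A ≤ P := by
    by_contra hcon
    push Not at hcon
    refine h.not_J_le_P ?_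
    rw [CfsgLib.PLocal.thompsonSubgroupOf_eq]
    exact sSup_le hcon
  have hT0 : HypT σ p T Mb :=
    { odd := h.odd
      ppos := fun q => by
        obtain ⟨v, rfl⟩ := QuotientAddGroup.mk'_surjective Y₀ q
        rw [← map_nsmul, hppos, map_zero]
      faithful := fun x hx => by
        obtain ⟨g, rfl⟩ := hπ x
        refine (QuotientGroup.eq_one_iff g).2 (hker g fun v => hmk.1 ?_)
        rw [← hσ]; exact hx (mk v)
      core := fun N hN hNp => by
        rw [eq_bot_iff]
        intro x hx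
        obtain ⟨g, rfl⟩ := hπ x
        refine Subgroup.mem_bot.2 ((QuotientGroup.eq_one_iff g).2
          (h.le_cent_V_of_pow (hN.comap π) (fun y hy => ?_) (show g ∈ N.comap π from hx)))
        obtain ⟨k, hk⟩ := hNp ⟨π y, hy⟩
        exact ⟨k, (QuotientGroup.eq_one_iff _).1 (by
          rw [← QuotientGroup.mk'_apply, map_pow]; exact congrArg Subtype.val hk)⟩
      Mne := fun he => h.Mne (by rw [← hcomap, he, Subgroup.comap_top])
      off := ⟨A₀.map π, hT ▸ Subgroup.map_mono hA₀.1, hne A₀ hA₀ hA₀P, hElem A₀ hA₀,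
        (hoff A₀ hA₀).2⟩
      vec := by
        obtain ⟨v, hv⟩ : ∃ v, v ∉ Y₀ := by
          by_contra hall
          push Not at hall
          refine h.Mne (top_le_iff.1 ((h.le_cent_V_of_pow (N := ⊤) inferInstance fun x _ => ?_).trans hCM))
          obtain ⟨n, hn⟩ := hY₀p x
          exact ⟨n, hmemC _ fun v => hn v (hall v)⟩
        obtain ⟨w, -, hw0, hw⟩ := exists_fix_ne (ρ := σ) (W := ⊤) (fun q => by
          obtain ⟨u, rfl⟩ := QuotientAddGroup.mk'_surjective Y₀ q
          rw [← map_nsmul, hppos, map_zero]) T.isPGroup' (fun _ _ _ _ => AddSubgroup.mem_top _)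
          (w0 := mk v) (AddSubgroup.mem_top _) (fun e => hv ((QuotientAddGroup.eq_zero_iff _).1 e))
        refine ⟨w, hw, fun hall => hw0 ?_⟩
        obtain ⟨u, rfl⟩ := QuotientAddGroup.mk'_surjective Y₀ w
        refine (QuotientAddGroup.eq_zero_iff _).2 (hstable u fun g => hmk.1 ?_)
        rw [← hσ]; exact hall (π g) (Subgroup.mem_top _)
      huniqT := fun R hR hRne => by
        have h1 : R.comap π ≤ M := h.Muniq _
          (fun s hs => hR (hT ▸ ⟨s, hs, rfl⟩)) fun he => hRne (by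
            rw [← Subgroup.map_comap_eq_self_of_surjective hπ R, he,
              Subgroup.map_top_of_surjective _ hπ])
        rw [← Subgroup.map_comap_eq_self_of_surjective hπ R]
        exact Subgroup.map_mono h1 }
  -- exactness
  have hexact : ∀ A ∈ CfsgLib.PLocal.maxEAIn p (S : Subgroup G),
      meas σ (A.map π) = Nat.card (Additive V ⧸ Y₀) ∧ Y₀ ≤ fix ρ A ∧
      fix σ (A.map π) = (fix ρ A).map mk ∧
      Nat.card V = Nat.card ↥(A.map π) * Nat.card (fix ρ A) := by
    intro A hA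
    obtain ⟨h1, h2⟩ := hoff A hA
    have hb := hT0.bound (hElem A hA)
    obtain ⟨hd1, hd2⟩ := hdesc A
    have h3 : Nat.card ↥((fix ρ A).map mk) ≤ Nat.card (fix σ (A.map π)) :=
      Nat.card_le_card_of_injective (fun x : ↥((fix ρ A).map mk) => (⟨x, hd1 x.2⟩ : fix σ (A.map π)))
        fun a b e => Subtype.ext (congrArg (fun w : fix σ (A.map π) => (w : Additive V ⧸ Y₀)) e)
    have hinj : Function.Injective (fun x : ↥(fix ρ A ⊓ Y₀) => (⟨x, x.2.2⟩ : Y₀)) :=
      fun a b e => Subtype.ext (congrArg (fun w : Y₀ => (w : Additive V)) e)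
    have h4 : Nat.card ↥(fix ρ A ⊓ Y₀) ≤ Nat.card Y₀ := Nat.card_le_card_of_injective _ hinj
    set a := Nat.card ↥(A.map π) with ha
    set m := Nat.card ↥((fix ρ A).map mk) with hm
    set k := Nat.card ↥(fix ρ A ⊓ Y₀) with hk
    set F' := Nat.card (fix σ (A.map π)) with hF'
    set Yb := Nat.card (Additive V ⧸ Y₀) with hYb
    set y := Nat.card Y₀ with hy
    rw [meas] at hb h2
    have hapos : 0 < a := Nat.card_pos
    have hmpos : 0 < m := Nat.card_pos
    have hkpos : 0 < k := Nat.card_pos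
    have hypos : 0 < y := Nat.card_pos
    have hVm : Yb * y ≤ a * (m * k) := by rw [← hVY, hcV, ← hd2]; exact h1
    have hF : a * F' = Yb := le_antisymm hb h2
    have hk' : k = y := le_antisymm h4 (by
      refine Nat.le_of_mul_le_mul_left ?_ (Nat.mul_pos hapos hmpos)
      calc a * m * y ≤ a * F' * y := Nat.mul_le_mul_right _ (Nat.mul_le_mul_left _ h3)
        _ = Yb * y := by rw [hF]
        _ ≤ a * m * k := by rw [mul_assoc]; exact hVm)
    have hm' : m = F' := le_antisymm h3 (by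
      refine Nat.le_of_mul_le_mul_left (Nat.le_of_mul_le_mul_right (c := y) ?_ hypos) hapos
      rw [hF]
      refine hVm.trans (le_of_eq ?_)
      rw [hk', mul_assoc])
    refine ⟨hF, fun v hv => ?_, ?_, ?_⟩
    · obtain ⟨x, hx⟩ := ((Nat.bijective_iff_injective_and_card _).2 ⟨hinj, hk'⟩).2 ⟨v, hv⟩
      have e := congrArg (fun w : Y₀ => (w : Additive V)) hx
      exact (show (x : Additive V) = v from e) ▸ x.2.1
    · refine le_antisymm (fun q hq => ?_) hd1
      obtain ⟨x, hx⟩ := ((Nat.bijective_iff_injective_and_card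
        (fun x : ↥((fix ρ A).map mk) => (⟨x, hd1 x.2⟩ : fix σ (A.map π)))).2
        ⟨fun a b e => Subtype.ext (congrArg (fun w : fix σ (A.map π) => (w : Additive V ⧸ Y₀)) e),
          hm'⟩).2 ⟨q, hq⟩
      have e := congrArg (fun w : fix σ (A.map π) => (w : Additive V ⧸ Y₀)) hx
      exact (show (x : Additive V ⧸ Y₀) = q from e) ▸ x.2
    · rw [hd2, ← hcV, hVY, ← hF, hk', hm']
      exact mul_assoc _ _ _
  have hAJ : ∀ A ∈ CfsgLib.PLocal.maxEAIn p (S : Subgroup G),
      A.map π ≤ offJ σ p (T : Subgroup (G ⧸ C)) := fun A hA =>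
    le_famJoin ⟨hElem A hA, (hexact A hA).1⟩ (hT ▸ Subgroup.map_mono hA.1)
  have hH : Hyp σ p T Mb :=
    { toHypT := hT0
      huniq := fun R hR hRne => by
        have h1 : R.comap π ≤ M := by
          refine h.overgroup (fun he => hRne ?_) ?_ fun b hb => hR ?_
          · rw [← Subgroup.map_comap_eq_self_of_surjective hπ R, he,
              Subgroup.map_top_of_surjective _ hπ]
          · refine fun x hx => ?_
            show π x ∈ R
            rw [show π x = 1 from (QuotientGroup.eq_one_iff x).2 (P_le_cent_V hx)]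
            exact one_mem _
          · refine ⟨hT ▸ ⟨b, hb.1, rfl⟩, fun q hq => ?_⟩
            obtain ⟨v, rfl⟩ := QuotientAddGroup.mk'_surjective Y₀ q
            have hvJ : ∀ A ∈ CfsgLib.PLocal.maxEAIn p (S : Subgroup G), v ∈ fix ρ A := by
              intro A hA
              obtain ⟨-, hY, hfx, -⟩ := hexact A hA
              have h2 : mk v ∈ fix σ (A.map π) := fun x hx => hq x (hAJ A hA hx)
              rw [hfx] at h2
              obtain ⟨w, hw, hwv⟩ := h2
              have h3 := add_mem hw (hY (hmk.1 hwv.symm))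
              rwa [add_sub_cancel] at h3
            have hvc : ∀ j ∈ Cfsg.thompsonSubgroupOf p (S : Subgroup G),
                j * (v.toMul : G) = (v.toMul : G) * j := by
              intro j hj
              rw [CfsgLib.PLocal.thompsonSubgroupOf_eq] at hj
              have h4 : sSup (CfsgLib.PLocal.maxEAIn p (S : Subgroup G)) ≤
                  Subgroup.centralizer {(v.toMul : G)} := sSup_le fun A hA a ha =>
                Subgroup.mem_centralizer_singleton_iff.2 ((conjRep_eq_iff V a v).1 (hvJ A hA a ha))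
              exact Subgroup.mem_centralizer_singleton_iff.1 (h4 hj)
            have hvZ : (v.toMul : G) ∈ Cfsg.omegaOne p (Cfsg.centerThompsonOf p (S : Subgroup G)) := by
              refine CfsgLib.PLocal.mem_omegaOne ⟨?_, Subgroup.mem_centralizer_iff.2 hvc⟩
                (hVe.2 _ v.toMul.2)
              have h5 : (v.toMul : G) ∈ A₀ := CfsgLib.PLocal.mem_maxEAIn_of_centralizing hA₀
                (P_le S (hVP v.toMul.2)) (Subgroup.mem_centralizer_iff.2 fun a ha =>
                  (conjRep_eq_iff V a v).1 (hvJ A₀ hA₀ a ha)) (hVe.2 _ v.toMul.2)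
              rw [CfsgLib.PLocal.thompsonSubgroupOf_eq]
              exact le_sSup hA₀ h5
            have hbv : ρ b v = v :=
              (conjRep_eq_iff V b v).2 (Subgroup.mem_centralizer_iff.1 hb.2 _ hvZ).symm
            show σ (π b) (mk v) = mk v
            rw [hσ, hbv]
        rw [← Subgroup.map_comap_eq_self_of_surjective hπ R]
        exact Subgroup.map_mono h1 }
  obtain ⟨C₀, hC₀T, fr, hfr⟩ := hH.exists_frame_top
  subst hC₀T
  obtain ⟨n, -, hn⟩ := FiniteField.card fr.F (ringChar fr.F)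
  have hchar : ringChar fr.F = p := CharP.ringChar_of_prime_eq_zero Fact.out fr.natCast_p
  rw [hchar] at hn
  have hχ : ∀ q, fr.χ q = 0 → q = 0 := by
    intro q hq
    obtain ⟨v, rfl⟩ := QuotientAddGroup.mk'_surjective Y₀ q
    refine (QuotientAddGroup.eq_zero_iff _).2 (hstable v fun g => hmk.1 ?_)
    rw [← hσ]
    exact fr.ker _ hq (π g) (hfr.ge (Subgroup.mem_top _))
  let f : G →* SpecialLinearGroup (Fin 2) fr.F :=
    fr.φ.toMonoidHom.comp (π.codRestrict fr.H fun g => hfr.ge (Subgroup.mem_top _))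
  have hf : ∀ g, f g = fr.φ ⟨π g, hfr.ge (Subgroup.mem_top _)⟩ := fun g => rfl
  have hfeq : ∀ A ∈ CfsgLib.PLocal.maxEAIn p (S : Subgroup G), ¬ A ≤ P →
      A.map π = (T : Subgroup (G ⧸ C)) := by
    intro A hA hAP
    have hle : A.map π ≤ (T : Subgroup (G ⧸ C)) := hT ▸ Subgroup.map_mono hA.1
    obtain ⟨x, hx, hx1⟩ := (Subgroup.bot_or_exists_ne_one _).resolve_left (hne A hA hAP)
    obtain ⟨s, rfl⟩ := fr.exists_cEl (hle hx)
    have hs : s ≠ 0 := fun e => hx1 (by rw [e, fr.cEl_zero])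
    have hfix : Nat.card (fix σ (A.map π)) ≤ Nat.card (fix σ (T : Subgroup (G ⧸ C))) := by
      refine Nat.card_le_card_of_injective (fun q : fix σ (A.map π) =>
        (⟨q, fr.mem_fix_iff.2 ((fr.fix_cEl_iff hs).1 (q.2 _ hx))⟩ : fix σ (T : Subgroup (G ⧸ C)))) ?_
      exact fun a b e =>
        Subtype.ext (congrArg (fun w : fix σ (T : Subgroup (G ⧸ C)) => (w : Additive V ⧸ Y₀)) e)
    refine Subgroup.eq_of_le_of_card_ge hle ?_
    have e1 := (hexact A hA).1
    have e2 := fr.meas_eq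
    rw [← e1, meas, meas] at e2
    refine Nat.le_of_mul_le_mul_right ?_ (Nat.card_pos (α := fix σ (T : Subgroup (G ⧸ C))))
    exact e2.le.trans (Nat.mul_le_mul_left _ hfix)
  -- consequences
  have hSπ : (T : Subgroup (G ⧸ C)) = A₀.map π := (hfeq A₀ hA₀ hA₀P).symm
  have hfixA : ∀ v : Additive V, mk v ∈ fix σ (T : Subgroup (G ⧸ C)) → v ∈ fix ρ A₀ := by
    intro v hv
    obtain ⟨-, hY, hfx, -⟩ := hexact A₀ hA₀
    rw [hSπ, hfx] at hv
    obtain ⟨w, hw, hwv⟩ := hv
    have h3 := add_mem hw (hY (hmk.1 hwv.symm))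
    rwa [add_sub_cancel] at h3
  have hA₀S : A₀ ⊔ P = (S : Subgroup G) := by
    refine le_antisymm (sup_le hA₀.1 (P_le S)) fun s hs => ?_
    obtain ⟨a, ha, hae⟩ : π s ∈ A₀.map π := hSπ.le (hT.ge ⟨s, hs, rfl⟩)
    have h1 : a⁻¹ * s ∈ P := by
      rw [hPdef, ← h.inf_cent_V]
      exact Subgroup.mem_inf.2 ⟨mul_mem (inv_mem (hA₀.1 ha)) hs, QuotientGroup.eq.1 hae⟩
    simpa using Subgroup.mul_mem_sup ha h1
  have hcentS : ∀ v : Additive V, v ∈ fix ρ A₀ →
      (v.toMul : G) ∈ Subgroup.centralizer ((S : Subgroup G) : Set G) := by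
    intro v hv
    have h1 : (S : Subgroup G) ≤ Subgroup.centralizer {(v.toMul : G)} := by
      rw [← hA₀S]
      refine sup_le (fun a ha => Subgroup.mem_centralizer_singleton_iff.2
        ((conjRep_eq_iff V a v).1 (hv a ha))) fun x hx => Subgroup.mem_centralizer_singleton_iff.2
          (((omegaOneCenter_spec v.toMul.2).2.1 x hx))
    exact Subgroup.mem_centralizer_iff.2 fun s hs => Subgroup.mem_centralizer_singleton_iff.1 (h1 hs)
  have hcEl : ∀ x ∈ (S : Subgroup G), ∃ s : fr.F, π x = fr.cEl s := fun x hx =>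
    fr.exists_cEl (hT.ge ⟨x, hx, rfl⟩)
  refine ⟨fr.F, fr.instF, fr.instFin, n, f, ⟨n.pos, hn, ?_, ?_, ?_, ?_, ?_, ?_, ?_, ?_⟩⟩
  · intro y
    obtain ⟨g, hg⟩ := hπ (fr.φ.symm y : fr.H)
    refine ⟨g, ?_⟩
    rw [hf, show (⟨π g, hfr.ge (Subgroup.mem_top _)⟩ : fr.H) = fr.φ.symm y from Subtype.ext hg,
      MulEquiv.apply_symm_apply]
  · ext g
    rw [MonoidHom.mem_ker, hf, MulEquiv.map_eq_one_iff, Subtype.ext_iff]
    exact QuotientGroup.eq_one_iff g
  · intro x hx
    obtain ⟨s, hs⟩ := hcEl x hx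
    refine ⟨s, ?_⟩
    rw [hf, ← fr.φ.apply_symm_apply (uni s)]
    exact congrArg fr.φ (Subtype.ext hs)
  · intro A hA hAP
    obtain ⟨-, -, -, hcard⟩ := hexact A hA
    have hq : Nat.card ↥(A.map π) = p ^ (n : ℕ) := by
      rw [hfeq A hA hAP, fr.card_C, Nat.card_eq_fintype_card, hn]
    have e1 : Nat.card A = p ^ (n : ℕ) * Nat.card ↥(A ⊓ P) := by rw [hcardA A hA.1, hq]
    have e2 : Nat.card V = p ^ (n : ℕ) * Nat.card ↥(V ⊓ A) := by rw [hcard, hq, hFA A hA]
    refine ⟨le_antisymm (sup_le hA.1 (P_le S)) fun s hs => ?_, e1, e2, ?_⟩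
    · obtain ⟨a, ha, hae⟩ : π s ∈ A.map π := (hfeq A hA hAP).ge (hT.ge ⟨s, hs, rfl⟩)
      have h1 : a⁻¹ * s ∈ P := by
        rw [hPdef, ← h.inf_cent_V]
        exact Subgroup.mem_inf.2 ⟨mul_mem (inv_mem (hA.1 ha)) hs, QuotientGroup.eq.1 hae⟩
      simpa using Subgroup.mul_mem_sup ha h1
    · obtain ⟨he, hle, hea⟩ := hsup A hA
      refine ⟨hle, hea, fun X hX hXe => (hA.2.2 X hX hXe).trans (le_of_eq ?_)⟩
      refine Nat.eq_of_mul_eq_mul_right (Nat.card_pos (α := ↥(V ⊓ A))) ?_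
      rw [he, e1, e2]; ring
  · intro x hx hxP v hv hxv
    set w : Additive V := Additive.ofMul ⟨v, hv⟩ with hw
    obtain ⟨s, hs⟩ := hcEl x hx
    have hs0 : s ≠ 0 := fun e => hxP (by
      rw [← h.inf_cent_V]
      exact ⟨hx, (QuotientGroup.eq_one_iff x).1 (by
        rw [← QuotientGroup.mk'_apply, ← hπdef, hs, e, fr.cEl_zero])⟩)
    have h1 : σ (fr.cEl s) (mk w) = mk w := by
      rw [← hs, hσ, show ρ x w = w from (conjRep_eq_iff V x w).2 hxv]
    exact hcentS w (hfixA w (fr.mem_fix_iff.2 ((fr.fix_cEl_iff hs0).1 h1)))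
  · obtain ⟨-, -, -, hcard⟩ := hexact A₀ hA₀
    have hq : Nat.card ↥(A₀.map π) = p ^ (n : ℕ) := by
      rw [hfeq A₀ hA₀ hA₀P, fr.card_C, Nat.card_eq_fintype_card, hn]
    rw [hcard, hq]
    congr 1
    exact Nat.card_congr
      { toFun := fun v => ⟨(v : Additive V).toMul, ((v : Additive V).toMul).2, hcentS _ v.2⟩
        invFun := fun y => ⟨Additive.ofMul ⟨y, y.2.1⟩, fun a ha =>
          (conjRep_eq_iff V a _).2 (Subgroup.mem_centralizer_iff.1 y.2.2 a (hA₀.1 ha))⟩
        left_inv := fun v => rfl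
        right_inv := fun y => rfl }
  · intro g hg v hv
    set w : Additive V := Additive.ofMul ⟨v, hv⟩ with hw
    obtain ⟨b, hb⟩ := QuotientAddGroup.mk'_surjective Y₀ (fr.ι0 (-(fr.pr1 (mk w))))
    have hπg : π g ∈ fr.H := hfr.ge (Subgroup.mem_top _)
    have hfg : (fr.φ ⟨π g, hπg⟩ : Matrix (Fin 2) (Fin 2) fr.F) = !![0, 1; -1, 0] :=
      congrArg Subtype.val ((hf g).symm.trans hg)
    have hbfix : b ∈ fix ρ A₀ := hfixA b (fr.mem_fix_iff.2 (by
      show fr.pr1 (mk b) = 0
      rw [show mk b = _ from hb, Frame.pr1_ι0]))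
    have hafix : w - ρ g b ∈ fix ρ A₀ := hfixA _ (fr.mem_fix_iff.2 (by
      rw [map_sub, map_sub, ← hσ, show mk b = _ from hb, fr.pr1_apply (σ (π g) _),
        show σ (π g) (fr.ι0 (-(fr.pr1 (mk w)))) = σ ((⟨π g, hπg⟩ : fr.H) : G ⧸ C)
          (fr.ι0 (-(fr.pr1 (mk w)))) from rfl, fr.equiv, hfg, Frame.ι0_apply, Frame.χ_ι]
      simp [Matrix.mulVec, dotProduct, Fin.sum_univ_two]))
    refine ⟨_, ⟨((w - ρ g b).toMul).2, hcentS _ hafix⟩, _, ⟨(b.toMul).2, hcentS _ hbfix⟩, ?_⟩
    have e : w = (w - ρ g b) + ρ g b := (sub_add_cancel _ _).symm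
    have e2 := congrArg (fun z : Additive V => (z.toMul : G)) e
    simp only [toMul_add, Subgroup.coe_mul, conjRep_apply, hρdef] at e2
    exact e2
  · intro τ hτ v hv hτv x hx
    have hπτ : π τ = fr.τ := congrArg Subtype.val (fr.φ.injective
      ((hf τ).symm.trans (hτ.trans (fr.φ.apply_symm_apply (-1)).symm)))
    set w : Additive V := Additive.ofMul ⟨v, hv⟩ with hw
    have hρw : ρ τ w = w := (conjRep_eq_iff V τ w).2 hτv
    have h1 : σ fr.τ (mk w) = mk w := by rw [← hπτ, hσ, hρw]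
    have hwY : w ∈ Y₀ := (QuotientAddGroup.eq_zero_iff _).1 (hχ _ (fr.τ_eq_iff.1 h1))
    obtain ⟨m, hm⟩ := hY₀p x
    obtain ⟨k, hk⟩ := exists_pow_eq_self_of_coprime (hx.symm.pow_left m)
    have hpow : ∀ j : ℕ, ρ ((x ^ p ^ m) ^ j) w = w := by
      intro j
      induction j with
      | zero => rw [pow_zero, act_one]
      | succ j ih => rw [pow_succ', act_mul, ih, hm w hwY]
    exact (conjRep_eq_iff V x w).1 (by rw [← hk]; exact hpow k)

end Crit

end CfsgLib.FocalThree
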